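import Cfsg.Agent.OrdDiv.Main

/-!
# Groups which do not have the order of the Lyons group
-/

set_option autoImplicit false

namespace Cfsg.Agent.H285.LyOrd

open Cfsg Cfsg.Agent.OrdDiv

universe u

/-- the order of the Lyons group -/
def NLy : ℕ := 51765179004000000

/-- its factorization -/
def lLy : List (ℕ × ℕ) := [(2, 8), (3, 7), (5, 6), (7, 1), (11, 1), (31, 1), (37, 1), (67, 1)]

theorem hv : valid lLy NLy = true := by decide +kernel

theorem psl {F : Type} [Field F] [Fintype F] {n : ℕ} (hn : 2 ≤ n) (hn2 : n = 2 → 4 ≤ Fintype.card F) :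
    Nat.card (Matrix.ProjectiveSpecialLinearGroup (Fin n) F) ≠ NLy := by
  intro h
  obtain ⟨h1, h2⟩ := psl_mem hv hn hn2 (by rw [h])
  have h3 : ∀ x ∈ cand lLy NLy fPSL, ordN (.psl x.1 x.2) ≠ NLy := by decide +kernel
  exact h3 _ h1 (h2.symm.trans h)

theorem psp {F : Type} [Field F] [Fintype F] {m : ℕ} (hm : 2 ≤ m) (hm2 : m = 2 → 3 ≤ Fintype.card F) :
    Nat.card (PSp m F) ≠ NLy := by
  intro h
  obtain ⟨h1, h2⟩ := psp_mem hv hm hm2 (by rw [h])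
  have h3 : ∀ x ∈ cand lLy NLy fPSp, ordN (.psp x.1 x.2) ≠ NLy := by decide +kernel
  exact h3 _ h1 (h2.symm.trans h)

theorem psu {F : Type} [Field F] [Fintype F] {n q : ℕ} (hF : Fintype.card F = q ^ 2) (hn : 3 ≤ n)
    (hn2 : ¬ (n = 3 ∧ q = 2)) : Nat.card (PSU n F q) ≠ NLy := by
  intro h
  obtain ⟨h1, h2⟩ := psu_mem hv hF hn hn2 (by rw [h])
  have h3 : ∀ x ∈ cand lLy NLy fPSU, ordN (.psu x.1 x.2) ≠ NLy := by decide +kernel
  exact h3 _ h1 (h2.symm.trans h)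

theorem g2 (T : OrderTable.{u}) {F : Type} [Field F] [Fintype F] (hF : 3 ≤ Fintype.card F) :
    Nat.card ↥(Lie.chevG2.group F) ≠ NLy := by
  intro h
  obtain ⟨h1, h2⟩ : (0, Fintype.card F) ∈ cand lLy NLy fG2 ∧
      Nat.card ↥(Lie.chevG2.group F) = fG2.num 0 (Fintype.card F) / fG2.den 0 (Fintype.card F) :=
    one_mem (a := 6) (f := fun q => (q ^ 2 - 1) * (q ^ 6 - 1)) (den := fun _ => 1)
      (ok := fun q => Nat.ble 3 q) hv (by norm_num) Fintype.isPrimePow_card_of_field (by rw [Nat.ble_eq]; exact hF)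
      (by rw [T.g2 F]; ring) (Nat.coprime_one_left _) (by rw [h])
  have h3 : ∀ x ∈ cand lLy NLy fG2, fG2.num 0 x.2 / fG2.den 0 x.2 ≠ NLy := by decide +kernel
  exact h3 _ h1 (h2.symm.trans h)

theorem td4 (T : OrderTable.{u}) {F : Type} [Field F] [Fintype F] {q : ℕ} (hq : IsPrimePow q)
    (hF : Fintype.card F = q ^ 3) : Nat.card ↥(Lie.twistedD4 F q) ≠ NLy := by
  intro h
  obtain ⟨h1, h2⟩ : (0, q) ∈ cand lLy NLy fTD4 ∧
      Nat.card ↥(Lie.twistedD4 F q) = fTD4.num 0 q / fTD4.den 0 q :=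
    one_mem (a := 12) (f := fun q => (q ^ 2 - 1) * (q ^ 6 - 1) * (q ^ 8 + q ^ 4 + 1)) (den := fun _ => 1)
      (ok := fun _ => true) hv (by norm_num) hq rfl
      (by rw [T.td4 F q hq hF]; ring) (Nat.coprime_one_left _) (by rw [h])
  have h3 : ∀ x ∈ cand lLy NLy fTD4, fTD4.num 0 x.2 / fTD4.den 0 x.2 ≠ NLy := by decide +kernel
  exact h3 _ h1 (h2.symm.trans h)

theorem sz (T : OrderTable.{u}) {F : Type} [Field F] [Fintype F] {m : ℕ} (hm : 1 ≤ m)
    (hF : Fintype.card F = 2 ^ (2 * m + 1)) : Nat.card ↥(Lie.Sz F (2 ^ (m + 1))) ≠ NLy := by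
  intro h
  obtain ⟨h1, h2⟩ : (0, 2 ^ (2 * m + 1)) ∈ cand lLy NLy fSz ∧
      Nat.card ↥(Lie.Sz F (2 ^ (m + 1))) = fSz.num 0 (2 ^ (2 * m + 1)) / fSz.den 0 (2 ^ (2 * m + 1)) :=
    one_mem (a := 2) (f := fun q => (q - 1) * (q ^ 2 + 1)) (den := fun _ => 1)
      (ok := fun q => Nat.blt 2 q && Nat.beq (q % 2) 0 && Nat.beq (q % 3) 2) hv (by norm_num)
      (Nat.prime_two.isPrimePow.pow (by omega)) (ok_two hm)
      (by rw [T.sz F m hm hF]; ring) (Nat.coprime_one_left _) (by rw [h])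
  have h3 : ∀ x ∈ cand lLy NLy fSz, fSz.num 0 x.2 / fSz.den 0 x.2 ≠ NLy := by decide +kernel
  exact h3 _ h1 (h2.symm.trans h)

theorem ree (T : OrderTable.{u}) {F : Type} [Field F] [Fintype F] {m : ℕ} (hm : 1 ≤ m)
    (hF : Fintype.card F = 3 ^ (2 * m + 1)) : Nat.card ↥(Lie.twistedG2 F (3 ^ m)) ≠ NLy := by
  intro h
  obtain ⟨h1, h2⟩ : (0, 3 ^ (2 * m + 1)) ∈ cand lLy NLy fRee ∧
      Nat.card ↥(Lie.twistedG2 F (3 ^ m)) = fRee.num 0 (3 ^ (2 * m + 1)) / fRee.den 0 (3 ^ (2 * m + 1)) :=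
    one_mem (a := 3) (f := fun q => (q - 1) * (q ^ 3 + 1)) (den := fun _ => 1)
      (ok := fun q => Nat.blt 3 q && Nat.beq (q % 3) 0 && Nat.beq (q % 4) 3) hv (by norm_num)
      (Nat.prime_three.isPrimePow.pow (by omega)) (ok_three hm)
      (by rw [T.ree F m hm hF]; ring) (Nat.coprime_one_left _) (by rw [h])
  have h3 : ∀ x ∈ cand lLy NLy fRee, fRee.num 0 x.2 / fRee.den 0 x.2 ≠ NLy := by decide +kernel
  exact h3 _ h1 (h2.symm.trans h)

theorem alt {G : Type u} [Group G] {n : ℕ} (hn : 5 ≤ n) (hn' : n ≤ 13) (e : G ≃* ↥(alternatingGroup (Fin n))) :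
    Nat.card G ≠ NLy := by
  intro h
  have h1 := alt_card hn e
  rw [h] at h1
  unfold NLy at h1
  interval_cases n
  all_goals
    simp only [Nat.factorial, Nat.succ_eq_add_one] at h1
    omega

end Cfsg.Agent.H285.LyOrd
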