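import Mathlib
import Cfsg.Prelude.Def_CaseTheorems
import Cfsg.Agent.NotResT.TwoRank
import Cfsg.Agent.LieClassical.SUBasic
import Cfsg.Agent.LieClassical.SympCenter

/-!
# Elementary abelian 2-subgroups of `PGL_n`, `n ≤ 6`, odd characteristic

`key`: a projective representation of an elementary abelian 2-group `E`, faithful modulo scalars, of degree `n ≤ 6`
over an algebraically closed field with `2 ≠ 0`: `|E| ≤ 2 ^ g n`, `g = 0, 2, 2, 4, 4, 5` for `n = 1, ..., 6`.

Consequences: the 2-ranks of `PSL_n(q)`, `PSU_n(q)`, `PSp_2m(q)`, `q` odd, of degree at most 6.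
-/

set_option autoImplicit false
set_option linter.style.haveILetI false

namespace Cfsg.Agent.H285.PglRank

open Module

universe u v w

/-- The bound for the rank. -/
def g (n : ℕ) : ℕ := if n ≤ 1 then 0 else if n ≤ 3 then 2 else if n ≤ 5 then 4 else 5

theorem g_ge {n : ℕ} (hn : n ≤ 6) : n - 1 ≤ g n := by
  unfold g
  split_ifs <;> omega

theorem g_double {n : ℕ} (hn : n + n ≤ 6) (h1 : 1 ≤ n) : g n + 2 ≤ g (n + n) := by
  unfold g
  split_ifs <;> omega

section

variable {K : Type*} [Field K] [IsAlgClosed K]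

/-- A group of exponent 2 is commutative. -/
theorem comm_of_sq {E : Type*} [Group E] (h : ∀ e : E, e * e = 1) (a b : E) : a * b = b * a := by
  have hi : ∀ e : E, e⁻¹ = e := fun e => inv_eq_of_mul_eq_one_left (h e)
  rw [← hi (a * b), mul_inv_rev, hi, hi]

/-- The commuting case. -/
theorem comm_case (h2 : (2 : K) ≠ 0) {H : Type u} {E : Type v} {V : Type w} [Group H] [Group E] [Finite E]
    [AddCommGroup V] [Module K V] [FiniteDimensional K V] (hV : 1 ≤ finrank K V)
    (he : ∀ e : E, e * e = 1) (π : H →* E) (hπ : Function.Surjective π) (ρ : H →* (V ≃ₗ[K] V))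
    (hρ : ∀ h, π h = 1 ↔ ∃ c : K, ∀ v, ρ h v = c • v)
    (hcomm : ∀ h k : H, ∀ v, ρ h (ρ k v) = ρ k (ρ h v)) : Nat.card E ≤ 2 ^ (finrank K V - 1) := by
  classical
  haveI : Nontrivial V := Module.nontrivial_of_finrank_pos (R := K) (by omega)
  obtain ⟨v0, hv0⟩ := exists_ne (0 : V)
  -- involutions
  have hex : ∀ e : E, ∃ (h : H) (y : V →ₗ[K] V) (c : K), π h = e ∧ c ≠ 0 ∧ (∀ v, y v = c • ρ h v) ∧
      ∀ v, y (y v) = v := by
    intro e
    obtain ⟨h, rfl⟩ := hπ e
    obtain ⟨d, hd⟩ := (hρ (h * h)).1 (by rw [map_mul, he])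
    have hd0 : d ≠ 0 := by
      rintro rfl
      have := hd v0
      rw [zero_smul] at this
      exact hv0 ((ρ (h * h)).map_eq_zero_iff.1 this)
    obtain ⟨m, hm⟩ := IsAlgClosed.exists_eq_mul_self d
    have hm0 : m ≠ 0 := by
      rintro rfl
      exact hd0 (by rw [hm, mul_zero])
    refine ⟨h, m⁻¹ • (ρ h : V →ₗ[K] V), m⁻¹, rfl, inv_ne_zero hm0, fun v => rfl, fun v => ?_⟩
    have h1 : ρ h (ρ h v) = d • v := by
      have := hd v
      rwa [map_mul] at this
    change m⁻¹ • ρ h (m⁻¹ • ρ h v) = v
    rw [map_smul, h1, smul_smul, smul_smul, hm]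
    rw [show m⁻¹ * m⁻¹ * (m * m) = 1 by field_simp, one_smul]
  choose hh y c hπh hc hy hyy using hex
  let f : E × Bool → (V →ₗ[K] V) := fun x => if x.2 then y x.1 else -(y x.1)
  have hfapp : ∀ x v, f x v = (if x.2 then (1 : K) else -1) • y x.1 v := by
    rintro ⟨e, b⟩ v
    cases b
    · simp [f]
    · simp [f]
  have hinj : Function.Injective f := by
    rintro ⟨e, b⟩ ⟨e', b'⟩ h
    have h1 : ∀ v, f (e, b) v = f (e', b') v := fun v => by rw [h]
    have hee : e = e' := by
      -- `ρ (h_e)` and `ρ (h_e')` are proportional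
      have h3 : ∃ d : K, ∀ v, ρ (hh e) v = d • ρ (hh e') v := by
        refine ⟨(c e)⁻¹ * ((if b then (1 : K) else -1) * ((if b' then (1 : K) else -1) * c e')), fun v => ?_⟩
        have h4 := h1 v
        rw [hfapp, hfapp, hy, hy] at h4
        simp only at h4
        have h5 : (if b then (1 : K) else -1) * (if b then (1 : K) else -1) = 1 := by
          cases b <;> simp
        have h6 := congrArg (fun x => ((c e)⁻¹ * (if b then (1 : K) else -1)) • x) h4
        simp only [smul_smul] at h6
        rw [show (c e)⁻¹ * (if b then (1 : K) else -1) * ((if b then (1 : K) else -1) * c e) = 1 by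
          rw [mul_assoc, ← mul_assoc (if b then (1 : K) else -1), h5, one_mul, inv_mul_cancel₀ (hc e)],
          one_smul] at h6
        rw [h6]
        congr 1
        ring
      obtain ⟨d, hd⟩ := h3
      have h7 : π (hh e * (hh e')⁻¹) = 1 := by
        refine (hρ _).2 ⟨d, fun v => ?_⟩
        rw [map_mul]
        change ρ (hh e) (ρ (hh e')⁻¹ v) = d • v
        rw [hd, map_inv]
        congr 1
        exact LinearEquiv.apply_symm_apply (ρ (hh e')) v
      rw [map_mul, map_inv, hπh, hπh] at h7
      exact mul_inv_eq_one.1 h7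
    subst hee
    have hbb : b = b' := by
      by_contra hne
      have h4 := h1 v0
      rw [hfapp, hfapp] at h4
      simp only at h4
      have hy0 : y e v0 ≠ 0 := by
        intro h0
        have := hyy e v0
        rw [h0, map_zero] at this
        exact hv0 this.symm
      have h8 : (2 : K) • y e v0 = 0 := by
        rcases b with _ | _ <;> rcases b' with _ | _
        · exact absurd rfl hne
        · rw [if_neg (by decide), if_pos rfl, one_smul, neg_one_smul] at h4
          rw [two_smul]
          nth_rewrite 1 [← h4]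
          exact neg_add_cancel _
        · rw [if_pos rfl, if_neg (by decide), one_smul, neg_one_smul] at h4
          rw [two_smul]
          nth_rewrite 1 [h4]
          exact neg_add_cancel _
        · exact absurd rfl hne
      exact hy0 ((smul_eq_zero.1 h8).resolve_left h2)
    rw [hbb]
  have hle := Cfsg.Agent.NotResT.Invol.ncard_le (F := K) (V := V) h2 (Set.range f) (Set.finite_range f) (by
    rintro _ ⟨⟨e, b⟩, rfl⟩ v
    rw [hfapp, hfapp, map_smul, hyy, smul_smul]
    cases b <;> simp) (by
    rintro _ ⟨⟨e, b⟩, rfl⟩ _ ⟨⟨e', b'⟩, rfl⟩ v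
    rw [hfapp, hfapp, hfapp, hfapp, map_smul, map_smul, hy, hy, hy, hy, map_smul, map_smul, hcomm]
    simp only [smul_smul]
    congr 1
    ring)
  have hcard : (Set.range f).ncard = 2 * Nat.card E := by
    rw [← Set.image_univ, Set.ncard_image_of_injective _ hinj, Set.ncard_univ, Nat.card_prod,
      Nat.card_eq_fintype_card (α := Bool), Fintype.card_bool, mul_comm]
  rw [hcard] at hle
  have : 2 ^ finrank K V = 2 * 2 ^ (finrank K V - 1) := by
    rw [← pow_succ']
    congr 1
    omega
  rw [this] at hle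
  exact Nat.le_of_mul_le_mul_left hle (by norm_num)

/-- **The bound**: a faithful (modulo scalars) projective representation of an elementary abelian 2-group of degree
at most 6. -/
theorem key (h2 : (2 : K) ≠ 0) : ∀ n : ℕ, n ≤ 6 → 1 ≤ n → ∀ {H : Type u} {E : Type v} {V : Type w} [Group H] [Group E]
    [Finite E] [AddCommGroup V] [Module K V] [FiniteDimensional K V], finrank K V = n →
    (∀ e : E, e * e = 1) → ∀ (π : H →* E), Function.Surjective π → ∀ (ρ : H →* (V ≃ₗ[K] V)),
    (∀ h, π h = 1 ↔ ∃ c : K, ∀ v, ρ h v = c • v) → Nat.card E ≤ 2 ^ g n := by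
  intro n
  induction n using Nat.strong_induction_on with
  | _ n ih =>
  intro hn6 hn1 H E V _ _ _ _ _ _ hV he π hπ ρ hρ
  classical
  haveI : Nontrivial V := Module.nontrivial_of_finrank_pos (R := K) (by omega)
  obtain ⟨v0, hv0⟩ := exists_ne (0 : V)
  by_cases hcomm : ∀ h k : H, ∀ v, ρ h (ρ k v) = ρ k (ρ h v)
  · refine (comm_case h2 (by omega) he π hπ ρ hρ hcomm).trans ?_
    rw [hV]
    exact Nat.pow_le_pow_right (by norm_num) (g_ge hn6)
  -- signs
  have hsgn : ∀ h k : H, (∀ v, ρ h (ρ k v) = ρ k (ρ h v)) ∨ (∀ v, ρ h (ρ k v) = -(ρ k (ρ h v))) := by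
    intro h k
    obtain ⟨c, hc⟩ := (hρ (h * k * h⁻¹ * k⁻¹)).1 (by
      rw [map_mul, map_mul, map_mul, map_inv, map_inv, comm_of_sq he (π h) (π k)]
      group)
    have hc' : ∀ v, ρ h (ρ k v) = c • ρ k (ρ h v) := by
      intro v
      have h1 := hc (ρ k (ρ h v))
      have h3 : (ρ (h * k * h⁻¹ * k⁻¹)) (ρ k (ρ h v)) = ρ h (ρ k v) := by
        have : ρ (h * k * h⁻¹ * k⁻¹) * ρ (k * h) = ρ (h * k) := by
          rw [← map_mul]
          congr 1
          group
        have h4 := LinearEquiv.congr_fun this v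
        rw [map_mul ρ k h, map_mul ρ h k] at h4
        exact h4
      rw [h3] at h1
      exact h1
    obtain ⟨d, hd⟩ := (hρ (h * h)).1 (by rw [map_mul, he])
    have hd' : ∀ v, ρ h (ρ h v) = d • v := by
      intro v
      have := hd v
      rwa [map_mul] at this
    have hd0 : d ≠ 0 := by
      rintro rfl
      have := hd v0
      rw [zero_smul] at this
      exact hv0 ((ρ (h * h)).map_eq_zero_iff.1 this)
    have h5 : (c * c) • (d • ρ k v0) = (1 : K) • (d • ρ k v0) := by
      have h6 : ρ h (ρ h (ρ k v0)) = d • ρ k v0 := hd' _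
      rw [hc', map_smul, hc', hd', map_smul, smul_smul] at h6
      rw [one_smul]
      exact h6
    have h7 : d • ρ k v0 ≠ 0 := by
      intro h0
      exact hv0 ((ρ k).map_eq_zero_iff.1 ((smul_eq_zero.1 h0).resolve_left hd0))
    have h8 : c * c = 1 := by
      by_contra hne
      have : (c * c - 1) • (d • ρ k v0) = 0 := by
        rw [sub_smul, h5, sub_self]
      exact h7 ((smul_eq_zero.1 this).resolve_left (sub_ne_zero.2 hne))
    rcases mul_self_eq_one_iff.1 h8 with rfl | rfl
    · left
      intro v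
      rw [hc', one_smul]
    · right
      intro v
      rw [hc', neg_one_smul]
  push Not at hcomm
  obtain ⟨h, k, v1, hv1⟩ := hcomm
  have hk : ∀ v, ρ h (ρ k v) = -(ρ k (ρ h v)) := by
    rcases hsgn h k with h1 | h1
    · exact absurd (h1 v1) hv1
    · exact h1
  -- the eigenspaces
  obtain ⟨d, hd⟩ := (hρ (h * h)).1 (by rw [map_mul, he])
  have hd' : ∀ v, ρ h (ρ h v) = d • v := by
    intro v
    have := hd v
    rwa [map_mul] at this
  have hd0 : d ≠ 0 := by
    rintro rfl
    have := hd v0
    rw [zero_smul] at this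
    exact hv0 ((ρ (h * h)).map_eq_zero_iff.1 this)
  obtain ⟨m, hm⟩ := IsAlgClosed.exists_eq_mul_self d
  have hm0 : m ≠ 0 := by
    rintro rfl
    exact hd0 (by rw [hm, mul_zero])
  let Vp : Submodule K V := LinearMap.ker ((ρ h : V →ₗ[K] V) - m • LinearMap.id)
  let Vm : Submodule K V := LinearMap.ker ((ρ h : V →ₗ[K] V) + m • LinearMap.id)
  have memp : ∀ v, v ∈ Vp ↔ ρ h v = m • v := by
    intro v
    change (ρ h v - m • v = 0) ↔ _
    rw [sub_eq_zero]
  have memm : ∀ v, v ∈ Vm ↔ ρ h v = -(m • v) := by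
    intro v
    change (ρ h v + m • v = 0) ↔ _
    rw [add_eq_zero_iff_eq_neg]
  have hkp : ∀ v ∈ Vp, ρ k v ∈ Vm := by
    intro v hv
    rw [memm, hk, (memp v).1 hv, map_smul]
  have hkm : ∀ v ∈ Vm, ρ k v ∈ Vp := by
    intro v hv
    rw [memp, hk, (memm v).1 hv, map_neg, neg_neg, map_smul]
  obtain ⟨dk, hdk⟩ := (hρ (k * k)).1 (by rw [map_mul, he])
  have hdk' : ∀ v, ρ k (ρ k v) = dk • v := by
    intro v
    have := hdk v
    rwa [map_mul] at this
  have hdk0 : dk ≠ 0 := by
    rintro rfl
    have := hdk v0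
    rw [zero_smul] at this
    exact hv0 ((ρ (k * k)).map_eq_zero_iff.1 this)
  have hsurj : ∀ w ∈ Vm, ∃ v ∈ Vp, ρ k v = w := by
    intro w hw
    refine ⟨dk⁻¹ • ρ k w, Vp.smul_mem _ (hkm w hw), ?_⟩
    rw [map_smul, hdk', smul_smul, inv_mul_cancel₀ hdk0, one_smul]
  have hdisj : Disjoint Vp Vm := by
    rw [Submodule.disjoint_def]
    intro w hp hq
    have h1 := (memp w).1 hp
    rw [(memm w).1 hq] at h1
    have h3 : (2 * m) • w = 0 := by
      rw [mul_smul, two_smul]
      nth_rewrite 1 [← h1]
      exact neg_add_cancel _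
    exact (smul_eq_zero.1 h3).resolve_left (mul_ne_zero h2 hm0)
  have hsup : Vp ⊔ Vm = ⊤ := by
    rw [eq_top_iff]
    intro v _
    have h1 : v = (2⁻¹ : K) • (v + m⁻¹ • ρ h v) + (2⁻¹ : K) • (v - m⁻¹ • ρ h v) := by
      rw [← smul_add]
      have : v + m⁻¹ • ρ h v + (v - m⁻¹ • ρ h v) = (2 : K) • v := by rw [two_smul]; abel
      rw [this, smul_smul, inv_mul_cancel₀ h2, one_smul]
    rw [h1]
    refine Submodule.add_mem_sup (Vp.smul_mem _ ?_) (Vm.smul_mem _ ?_)
    · rw [memp, map_add, map_smul, hd', smul_add, smul_smul, smul_smul, hm, mul_inv_cancel₀ hm0, one_smul,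
        show m⁻¹ * (m * m) = m by rw [← mul_assoc, inv_mul_cancel₀ hm0, one_mul], add_comm]
    · rw [memm, map_sub, map_smul, hd', smul_sub, smul_smul, smul_smul, hm, mul_inv_cancel₀ hm0, one_smul,
        show m⁻¹ * (m * m) = m by rw [← mul_assoc, inv_mul_cancel₀ hm0, one_mul], neg_sub]
  have hrk : finrank K Vm = finrank K Vp := by
    apply le_antisymm
    · -- `ρ k` maps `Vm` injectively into `Vp`
      refine LinearMap.finrank_le_finrank_of_injective
        (f := ((ρ k : V →ₗ[K] V).restrict (p := Vm) (q := Vp) (fun v hv => hkm v hv))) ?_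
      intro x y hxy
      have := congrArg Subtype.val hxy
      exact Subtype.ext ((ρ k).injective this)
    · refine LinearMap.finrank_le_finrank_of_injective
        (f := ((ρ k : V →ₗ[K] V).restrict (p := Vp) (q := Vm) (fun v hv => hkp v hv))) ?_
      intro x y hxy
      have := congrArg Subtype.val hxy
      exact Subtype.ext ((ρ k).injective this)
  have hrank : finrank K Vp + finrank K Vp = n := by
    have := Submodule.finrank_sup_add_finrank_inf_eq Vp Vm
    rw [hdisj.eq_bot, finrank_bot, add_zero, hsup, finrank_top, hV, hrk] at this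
    exact this.symm
  -- the commuting part
  let C : Subgroup H :=
    { carrier := {x | (∀ v, ρ x (ρ h v) = ρ h (ρ x v)) ∧ ∀ v, ρ x (ρ k v) = ρ k (ρ x v)}
      mul_mem' := by
        rintro x y ⟨hx1, hx2⟩ ⟨hy1, hy2⟩
        refine ⟨fun v => ?_, fun v => ?_⟩
        · rw [map_mul]
          change ρ x (ρ y (ρ h v)) = ρ h (ρ x (ρ y v))
          rw [hy1, hx1]
        · rw [map_mul]
          change ρ x (ρ y (ρ k v)) = ρ k (ρ x (ρ y v))
          rw [hy2, hx2]
      one_mem' := by
        refine ⟨fun v => ?_, fun v => ?_⟩ <;> rw [map_one] <;> rfl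
      inv_mem' := by
        rintro x ⟨hx1, hx2⟩
        have hinv : ∀ v, ρ x (ρ x⁻¹ v) = v := by
          intro v
          rw [map_inv]
          exact LinearEquiv.apply_symm_apply (ρ x) v
        refine ⟨fun v => ?_, fun v => ?_⟩
        · apply (ρ x).injective
          rw [hinv, hx1, hinv]
        · apply (ρ x).injective
          rw [hinv, hx2, hinv] }
  have memC : ∀ x, x ∈ C ↔ (∀ v, ρ x (ρ h v) = ρ h (ρ x v)) ∧ ∀ v, ρ x (ρ k v) = ρ k (ρ x v) := fun x => Iff.rfl
  let E' : Subgroup E := C.map π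
  let π' : C →* E' := (π.comp C.subtype).codRestrict E' (fun x => ⟨x, x.2, rfl⟩)
  have hπ' : Function.Surjective π' := by
    rintro ⟨_, x, hx, rfl⟩
    exact ⟨⟨x, hx⟩, rfl⟩
  have hCp : ∀ x ∈ C, ∀ v ∈ Vp, ρ x v ∈ Vp := by
    intro x hx v hv
    rw [memp, ← ((memC x).1 hx).1, (memp v).1 hv, map_smul]
  let ρ' : C →* (Vp ≃ₗ[K] Vp) :=
    { toFun := fun x => LinearEquiv.ofLinearMap
        ((ρ x : V →ₗ[K] V).restrict (p := Vp) (q := Vp) (fun v hv => hCp x x.2 v hv))
        ((ρ (x⁻¹ : C) : V →ₗ[K] V).restrict (p := Vp) (q := Vp) (fun v hv => hCp _ (x⁻¹ : C).2 v hv))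
        (by
          ext v
          change ρ (x : H) (ρ ((x : H)⁻¹) v) = v
          rw [map_inv]
          exact LinearEquiv.apply_symm_apply (ρ (x : H)) v)
        (by
          ext v
          change ρ ((x : H)⁻¹) (ρ (x : H) v) = v
          rw [map_inv]
          exact LinearEquiv.symm_apply_apply (ρ (x : H)) v)
      map_one' := by
        ext v
        change ρ (1 : H) v = v
        rw [map_one]
        rfl
      map_mul' := by
        intro x y
        ext v
        change ρ ((x : H) * (y : H)) v = ρ (x : H) (ρ (y : H) v)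
        rw [map_mul]
        rfl }
  have hρ'app : ∀ (x : C) (v : Vp), ((ρ' x v : Vp) : V) = ρ (x : H) v := fun x v => rfl
  have hρ'ker : ∀ x : C, π' x = 1 ↔ ∃ c : K, ∀ v, ρ' x v = c • v := by
    intro x
    constructor
    · intro hx
      have h1 : π (x : H) = 1 := congrArg Subtype.val hx
      obtain ⟨c, hc⟩ := (hρ _).1 h1
      exact ⟨c, fun v => Subtype.ext (hc v)⟩
    · rintro ⟨c, hc⟩
      apply Subtype.ext
      change π (x : H) = 1
      refine (hρ _).2 ⟨c, fun v => ?_⟩
      have hvt : v ∈ Vp ⊔ Vm := by rw [hsup]; trivial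
      obtain ⟨a, ha, b, hb, rfl⟩ := Submodule.mem_sup.1 hvt
      have h1 : ∀ a ∈ Vp, ρ (x : H) a = c • a := fun a ha => congrArg Subtype.val (hc ⟨a, ha⟩)
      obtain ⟨b', hb', rfl⟩ := hsurj b hb
      rw [map_add, h1 a ha, ((memC _).1 x.2).2, h1 b' hb', map_smul, smul_add]
  have hE' : Nat.card E' ≤ 2 ^ g (finrank K Vp) :=
    ih (finrank K Vp) (by omega) (by omega) (by omega) rfl (fun e => Subtype.ext (he e)) π' hπ' ρ' hρ'ker
  -- the index
  have hE4 : Nat.card E ≤ Nat.card E' * 4 := by
    have hsurj4 : Function.Surjective (fun x : E' × (Bool × Bool) =>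
        (x.1 : E) * ((if x.2.1 then π h else 1) * (if x.2.2 then π k else 1))) := by
      intro e
      obtain ⟨x, rfl⟩ := hπ e
      -- correct the signs
      have hcase : ∃ (a b : Bool), x * ((if a then h else 1) * (if b then k else 1)) ∈ C := by
        have e1 := hsgn x h
        have e2 := hsgn x k
        have hmul : ∀ (x y : H) (v : V), ρ (x * y) v = ρ x (ρ y v) := fun x y v => by rw [map_mul]; rfl
        rcases e1 with e1 | e1 <;> rcases e2 with e2 | e2
        · refine ⟨false, false, ?_⟩
          simp only [Bool.false_eq_true, if_false, mul_one]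
          exact ⟨e1, e2⟩
        · -- commutes with h, anticommutes with k: multiply by h
          refine ⟨true, false, ?_⟩
          simp only [Bool.false_eq_true, if_false, if_true, mul_one]
          refine ⟨fun v => ?_, fun v => ?_⟩
          · rw [hmul, hmul, e1, e1]
          · rw [hmul, hmul, hk, map_neg, e2, neg_neg]
        · refine ⟨false, true, ?_⟩
          simp only [Bool.false_eq_true, if_false, if_true, one_mul]
          refine ⟨fun v => ?_, fun v => ?_⟩
          · rw [hmul, hmul]
            have : ρ k (ρ h v) = -(ρ h (ρ k v)) := by rw [hk, neg_neg]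
            rw [this, map_neg, e1, neg_neg]
          · rw [hmul, hmul, e2, e2]
        · refine ⟨true, true, ?_⟩
          simp only [if_true]
          refine ⟨fun v => ?_, fun v => ?_⟩
          · rw [hmul, hmul, hmul, hmul]
            have : ρ k (ρ h v) = -(ρ h (ρ k v)) := by rw [hk, neg_neg]
            rw [this, map_neg, map_neg, e1, neg_neg]
          · rw [hmul, hmul, hmul, hmul, hk, map_neg, e2, neg_neg]
      obtain ⟨a, b, hab⟩ := hcase
      refine ⟨(⟨π (x * ((if a then h else 1) * (if b then k else 1))), _, hab, rfl⟩, (a, b)), ?_⟩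
      simp only [map_mul]
      have h9 : ∀ (b : Bool) (t : H), π (if b then t else 1) = if b then π t else 1 := by
        intro b t
        cases b <;> simp
      rw [h9, h9, mul_assoc, he, mul_one]
    have := Nat.card_le_card_of_surjective _ hsurj4
    rw [Nat.card_prod] at this
    have h4 : Nat.card (Bool × Bool) = 4 := by simp
    rwa [h4] at this
  calc Nat.card E ≤ Nat.card E' * 4 := hE4
    _ ≤ 2 ^ g (finrank K Vp) * 4 := Nat.mul_le_mul_right _ hE'
    _ = 2 ^ (g (finrank K Vp) + 2) := by rw [pow_add]; norm_num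
    _ ≤ 2 ^ g n := by
      apply Nat.pow_le_pow_right (by norm_num)
      rw [← hrank]
      exact g_double (by omega) (by omega)

end

/-! ### matrix groups -/

open Cfsg

/-- Quotients of matrix groups of degree at most 6 by their scalars. -/
theorem pRankLE_quot {K : Type*} [Field K] (h2 : (2 : K) ≠ 0) {ι : Type} [Fintype ι] [DecidableEq ι]
    (h1 : 1 ≤ Fintype.card ι) (h6 : Fintype.card ι ≤ 6) {S : Type*} [Group S] [Finite S] (f : S →* Matrix ι ι K)
    (N : Subgroup S) [N.Normal] (hN : ∀ s, s ∈ N ↔ ∃ c : K, f s = c • (1 : Matrix ι ι K)) :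
    PRankLE 2 (g (Fintype.card ι)) (S ⧸ N) := by
  classical
  intro A hA hAp
  let Kb := AlgebraicClosure K
  have h2b : (2 : Kb) ≠ 0 := by
    have : (2 : Kb) = algebraMap K Kb 2 := by rw [map_ofNat]
    rw [this]
    exact (map_ne_zero_iff _ (algebraMap K Kb).injective).2 h2
  let H : Subgroup S := A.comap (QuotientGroup.mk' N)
  let π : H →* A := ((QuotientGroup.mk' N).comp H.subtype).codRestrict A (fun x => x.2)
  have hπ : Function.Surjective π := by
    rintro ⟨a, ha⟩
    obtain ⟨s, rfl⟩ := QuotientGroup.mk'_surjective N a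
    exact ⟨⟨s, ha⟩, rfl⟩
  let fb : S →* Matrix ι ι Kb := ((algebraMap K Kb).mapMatrix : Matrix ι ι K →+* Matrix ι ι Kb).toMonoidHom.comp f
  let ρ0 : S →* ((ι → Kb) ≃ₗ[Kb] (ι → Kb)) :=
    (LinearMap.GeneralLinearGroup.generalLinearEquiv Kb (ι → Kb)).toMonoidHom.comp
      (((Matrix.toLinAlgEquiv' : Matrix ι ι Kb ≃ₐ[Kb] _).toAlgHom.toMonoidHom'.comp fb).toHomUnits)
  have hρ0 : ∀ s v, ρ0 s v = (fb s).mulVec v := by
    intro s v
    rfl
  let ρ : H →* ((ι → Kb) ≃ₗ[Kb] (ι → Kb)) := ρ0.comp H.subtype
  have hcard := key (K := Kb) h2b (Fintype.card ι) h6 h1 (H := H) (E := A) (V := ι → Kb)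
    (Module.finrank_fintype_fun_eq_card Kb) (fun a => by
      have := hAp a a.2
      rw [pow_two] at this
      exact Subtype.ext this) π hπ ρ (by
    intro h
    have e1 : π h = 1 ↔ (h : S) ∈ N := by
      constructor
      · intro hh
        exact (QuotientGroup.eq_one_iff _).1 (congrArg Subtype.val hh)
      · intro hh
        exact Subtype.ext ((QuotientGroup.eq_one_iff _).2 hh)
    rw [e1, hN]
    constructor
    · rintro ⟨c, hc⟩
      refine ⟨algebraMap K Kb c, fun v => ?_⟩
      change ρ0 h v = _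
      rw [hρ0]
      change ((algebraMap K Kb).mapMatrix (f h)).mulVec v = _
      rw [hc]
      have : (algebraMap K Kb).mapMatrix (c • (1 : Matrix ι ι K)) = algebraMap K Kb c • (1 : Matrix ι ι Kb) := by
        ext i j
        simp only [RingHom.mapMatrix_apply, Matrix.map_apply, Matrix.smul_apply, smul_eq_mul, map_mul]
        congr 1
        by_cases hij : i = j
        · subst hij; simp
        · simp [hij]
      rw [this, Matrix.smul_mulVec, Matrix.one_mulVec]
    · rintro ⟨c, hc⟩
      have hm : (algebraMap K Kb).mapMatrix (f h) = c • (1 : Matrix ι ι Kb) := by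
        apply Matrix.toLin'.injective
        apply LinearMap.ext
        intro v
        have := hc v
        change ρ0 h v = _ at this
        rw [hρ0] at this
        rw [Matrix.toLin'_apply, Matrix.toLin'_apply, Matrix.smul_mulVec, Matrix.one_mulVec]
        exact this
      have i0 : ι := (Fintype.card_pos_iff.1 (by omega)).some
      refine ⟨f h i0 i0, ?_⟩
      have hentry : ∀ i j, algebraMap K Kb (f h i j) = c * (1 : Matrix ι ι Kb) i j := by
        intro i j
        have := congrFun (congrFun hm i) j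
        rwa [RingHom.mapMatrix_apply, Matrix.map_apply, Matrix.smul_apply, smul_eq_mul] at this
      have hc0 : algebraMap K Kb (f h i0 i0) = c := by
        rw [hentry, Matrix.one_apply_eq, mul_one]
      ext i j
      apply (algebraMap K Kb).injective
      rw [hentry, Matrix.smul_apply, smul_eq_mul, map_mul, hc0]
      congr 1
      by_cases hij : i = j
      · subst hij; simp
      · simp [hij])
  exact hcard

theorem two_ne {F : Type*} [Field F] [Fintype F] (hF : Odd (Fintype.card F)) : (2 : F) ≠ 0 :=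
  Cfsg.Agent.NotResT.TwoRank.two_ne_zero_of_odd hF

/-- `PSL_n(q)`, `q` odd, `n ≤ 6`. -/
theorem psl {F : Type*} [Field F] [Fintype F] (hF : Odd (Fintype.card F)) {n : ℕ} (h1 : 1 ≤ n) (h6 : n ≤ 6) :
    PRankLE 2 (g n) (Matrix.ProjectiveSpecialLinearGroup (Fin n) F) := by
  have h := pRankLE_quot (K := F) (two_ne hF) (ι := Fin n) (by rwa [Fintype.card_fin]) (by rwa [Fintype.card_fin])
    (slToMat n F) (Subgroup.center (Matrix.SpecialLinearGroup (Fin n) F)) (by
      intro s
      rw [Matrix.SpecialLinearGroup.mem_center_iff]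
      constructor
      · rintro ⟨r, -, hr⟩
        refine ⟨r, ?_⟩
        change (s : Matrix (Fin n) (Fin n) F) = _
        rw [← hr, Matrix.scalar_apply, ← Matrix.smul_one_eq_diagonal]
      · rintro ⟨c, hc⟩
        change (s : Matrix (Fin n) (Fin n) F) = _ at hc
        refine ⟨c, ?_, ?_⟩
        · have h := s.det_coe
          rw [hc, Matrix.det_smul, Matrix.det_one, mul_one] at h
          exact h
        · rw [hc, Matrix.scalar_apply, ← Matrix.smul_one_eq_diagonal])
  rwa [Fintype.card_fin] at h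

/-- `PSU_n(q)`, `q` odd, `3 ≤ n ≤ 6`. -/
theorem psu {F : Type*} [Field F] [Fintype F] {q : ℕ} (hq : Odd q) (hF : Fintype.card F = q ^ 2) {n : ℕ} (h1 : 3 ≤ n)
    (h6 : n ≤ 6) : PRankLE 2 (g n) (PSU n F q) := by
  have h := pRankLE_quot (K := F) (two_ne (by rw [hF]; exact hq.pow)) (ι := Fin n)
    (by rw [Fintype.card_fin]; omega) (by rwa [Fintype.card_fin])
    ((slToMat n F).comp (SU n F q).subtype) (Subgroup.center (SU n F q)) (by
      intro s
      constructor
      · intro hs
        obtain ⟨c, hcn, hcq, rfl⟩ := (Cfsg.Agent.LieClassical.SUBasic.mem_center_SU_iff hF h1 s).1 hs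
        refine ⟨c, ?_⟩
        have := Cfsg.Agent.LieClassical.SUBasic.coe_suScalar q c hcn hcq
        rw [← Matrix.smul_one_eq_diagonal] at this
        exact this
      · rintro ⟨c, hc⟩
        change ((s : Matrix.SpecialLinearGroup (Fin n) F) : Matrix (Fin n) (Fin n) F) = _ at hc
        rw [Subgroup.mem_center_iff]
        intro t
        apply Subtype.ext
        apply Subtype.ext
        change ((t : Matrix.SpecialLinearGroup (Fin n) F) : Matrix (Fin n) (Fin n) F) *
          ((s : Matrix.SpecialLinearGroup (Fin n) F) : Matrix (Fin n) (Fin n) F) =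
          ((s : Matrix.SpecialLinearGroup (Fin n) F) : Matrix (Fin n) (Fin n) F) *
          ((t : Matrix.SpecialLinearGroup (Fin n) F) : Matrix (Fin n) (Fin n) F)
        rw [hc]
        simp)
  rwa [Fintype.card_fin] at h

/-- `PSp_2m(q)`, `q` odd, `1 ≤ m ≤ 3`. -/
theorem psp {F : Type*} [Field F] [Fintype F] (hF : Odd (Fintype.card F)) {m : ℕ} (h1 : 1 ≤ m) (h3 : m ≤ 3) :
    PRankLE 2 (g (m + m)) (PSp m F) := by
  have h := pRankLE_quot (K := F) (two_ne hF) (ι := Fin m ⊕ Fin m)
    (by rw [Fintype.card_sum, Fintype.card_fin]; omega) (by rw [Fintype.card_sum, Fintype.card_fin]; omega)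
    (Submonoid.subtype _) (Subgroup.center (Matrix.symplecticGroup (Fin m) F))
    (fun s => Cfsg.Agent.LieClassical.SympCenter.mem_center_iff m s)
  rwa [Fintype.card_sum, Fintype.card_fin] at h

end Cfsg.Agent.H285.PglRank
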