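import Cfsg.Agent.H285.TwoPart

/-!
# The exact 2-parts of the orders of the small classical groups in odd characteristic
-/

set_option autoImplicit false

namespace Cfsg.Agent.H285.TwoExact

open Cfsg Cfsg.Agent.OrdDiv Cfsg.Agent.H285.TwoPart

universe u

theorem glN_eq (n q : ℕ) :
    glN n q = (∏ i ∈ Finset.range n, q ^ i) * ∏ i ∈ Finset.range n, (q ^ (i + 1) - 1) := by
  unfold glN
  rw [prod_list, ← Finset.prod_range_reflect (fun i => q ^ (i + 1) - 1), ← Finset.prod_mul_distrib]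
  apply Finset.prod_congr rfl
  intro i hi
  rw [Finset.mem_range] at hi
  rw [Nat.mul_sub, mul_one, ← pow_add]
  congr 2
  omega

theorem split {x k r : ℕ} (h : x % (2 * k) = k) (hr : r = k) : ∃ y, x = r * y ∧ Odd y := by
  subst hr
  refine ⟨2 * (x / (2 * r)) + 1, ?_, ⟨_, rfl⟩⟩
  have := Nat.div_add_mod x (2 * r)
  rw [h] at this
  rw [← this]
  have h2 : (2 * r * (x / (2 * r)) + r) / (2 * r) = x / (2 * r) := by rw [this]
  rw [h2]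
  ring

/-- a product with known exact powers of two -/
theorem no_dvd {x y z w c i j k : ℕ} {d : ℕ} (hx : x % (2 * 2 ^ i) = 2 ^ i) (hy : y % (2 * 2 ^ j) = 2 ^ j)
    (hz : z % (2 * 2 ^ k) = 2 ^ k) (hw : Odd w) (h : 2 ^ d * c = w * (x * y * z)) :
    ¬ 2 ^ (i + j + k + 1 - d) ∣ c := by
  intro hd
  obtain ⟨x', rfl, hx'⟩ := split hx rfl
  obtain ⟨y', rfl, hy'⟩ := split hy rfl
  obtain ⟨z', rfl, hz'⟩ := split hz rfl
  have h1 : 2 ^ (i + j + k + 1) ∣ 2 ^ d * c :=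
    (pow_dvd_pow 2 (show i + j + k + 1 ≤ d + (i + j + k + 1 - d) by omega)).trans
      (by rw [pow_add]; exact Nat.mul_dvd_mul_left _ hd)
  have h2 : w * (2 ^ i * x' * (2 ^ j * y') * (2 ^ k * z')) = 2 ^ (i + j + k) * (w * x' * y' * z') := by ring
  rw [h, h2, pow_succ] at h1
  have h3 := Nat.dvd_of_mul_dvd_mul_left (by positivity) h1
  have h4 : Odd (w * x' * y' * z') := ((hw.mul hx').mul hy').mul hz'
  exact (Nat.not_even_iff_odd.2 h4) (even_iff_two_dvd.2 h3)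

/-! ### residues -/

theorem odd_mod {q : ℕ} (hq : Odd q) : q % 8 = 1 ∨ q % 8 = 3 ∨ q % 8 = 5 ∨ q % 8 = 7 := by
  obtain ⟨k, rfl⟩ := hq
  omega

theorem dvd_sub_one {x k : ℕ} (hx : 1 ≤ x) (h : x % k = 1 % k) : k ∣ x - 1 := (Nat.modEq_iff_dvd' hx).1 h.symm

theorem mod_sub_one {x m r : ℕ} (hx : 1 ≤ x) (hm : 1 < m) (_hr : r + 1 < m) (h : x % m = r + 1) : (x - 1) % m = r := by
  obtain ⟨y, rfl⟩ : ∃ y, x = y + 1 := ⟨x - 1, by omega⟩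
  rw [Nat.add_sub_cancel]
  have h1 := Nat.add_mod y 1 m
  rw [h, Nat.mod_eq_of_lt hm] at h1
  have h2 : y % m < m := Nat.mod_lt _ (by omega)
  rcases Nat.lt_or_ge (y % m + 1) m with h3 | h3
  · rw [Nat.mod_eq_of_lt h3] at h1
    omega
  · have h4 : y % m + 1 = m := by omega
    rw [h4, Nat.mod_self] at h1
    omega

theorem mod_add_one {x m r : ℕ} (hr : r + 1 < m) (h : x % m = r) : (x + 1) % m = r + 1 := by
  rw [Nat.add_mod, h, Nat.mod_eq_of_lt (show 1 < m by omega), Nat.mod_eq_of_lt hr]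

theorem sq16_a {q : ℕ} (h : q % 8 = 1 ∨ q % 8 = 7) : q ^ 2 % 16 = 1 := by
  have h1 : q % 16 = 1 ∨ q % 16 = 9 ∨ q % 16 = 7 ∨ q % 16 = 15 := by omega
  rcases h1 with h1 | h1 | h1 | h1 <;> rw [Nat.pow_mod, h1]

theorem sq16_b {q : ℕ} (h : q % 8 = 3 ∨ q % 8 = 5) : q ^ 2 % 16 = 9 := by
  have h1 : q % 16 = 3 ∨ q % 16 = 11 ∨ q % 16 = 5 ∨ q % 16 = 13 := by omega
  rcases h1 with h1 | h1 | h1 | h1 <;> rw [Nat.pow_mod, h1]

theorem four32_a {q : ℕ} (h : q % 8 = 1 ∨ q % 8 = 7) : q ^ 4 % 32 = 1 := by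
  have h0 := sq16_a h
  have h1 : q ^ 2 % 32 = 1 ∨ q ^ 2 % 32 = 17 := by omega
  rw [show q ^ 4 = (q ^ 2) ^ 2 by ring]
  rcases h1 with h1 | h1 <;> rw [Nat.pow_mod, h1]

theorem four32_b {q : ℕ} (h : q % 8 = 3 ∨ q % 8 = 5) : q ^ 4 % 32 = 17 := by
  have h0 := sq16_b h
  have h1 : q ^ 2 % 32 = 9 ∨ q ^ 2 % 32 = 25 := by omega
  rw [show q ^ 4 = (q ^ 2) ^ 2 by ring]
  rcases h1 with h1 | h1 <;> rw [Nat.pow_mod, h1]

theorem cube8 {q : ℕ} (hq : Odd q) : q ^ 3 % 8 = q % 8 := by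
  rcases odd_mod hq with h1 | h1 | h1 | h1 <;> rw [Nat.pow_mod, h1]

theorem two_dvd_pow_sub {q : ℕ} (k : ℕ) (hq : Odd q) : 2 ∣ q ^ k - 1 := (Nat.Odd.sub_odd hq.pow odd_one).two_dvd

theorem two_dvd_pow_add {q : ℕ} (k : ℕ) (hq : Odd q) : 2 ∣ q ^ k + 1 := (hq.pow.add_one).two_dvd

theorem sixteen {q : ℕ} (hq : 1 ≤ q) (h : q % 8 = 1 ∨ q % 8 = 7) : 16 ∣ q ^ 2 - 1 :=
  dvd_sub_one (Nat.one_le_pow _ _ hq) (sq16_a h)

theorem thirtytwo {q : ℕ} (hq : 1 ≤ q) (h : q % 8 = 1 ∨ q % 8 = 7) : 32 ∣ q ^ 4 - 1 :=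
  dvd_sub_one (Nat.one_le_pow _ _ hq) (four32_a h)

/-! ### `PSL_4(q)` and `PSU_4(q)` -/

theorem psl4_eq {q c : ℕ} (hq1 : 1 < q) (h : fPSL.den 4 q * c = fPSL.num 4 q) :
    Nat.gcd 4 (q - 1) * c = q ^ 6 * ((q ^ 2 - 1) * (q ^ 3 - 1) * (q ^ 4 - 1)) := by
  change Nat.gcd 4 (q - 1) * (q - 1) * c = glN 4 q at h
  rw [glN_eq] at h
  simp only [Finset.prod_range_succ, Finset.prod_range_zero, one_mul, zero_add, pow_one, Nat.reduceAdd, pow_zero] at h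
  apply Nat.eq_of_mul_eq_mul_left (show 0 < q - 1 by omega)
  calc (q - 1) * (Nat.gcd 4 (q - 1) * c) = Nat.gcd 4 (q - 1) * (q - 1) * c := by ring
    _ = _ := by rw [h]; ring

theorem psu4_eq {q c : ℕ} (h : fPSU.den 4 q * c = fPSU.num 4 q) :
    Nat.gcd 4 (q + 1) * c = q ^ 6 * ((q ^ 2 - 1) * (q ^ 3 + 1) * (q ^ 4 - 1)) := by
  change Nat.gcd 4 (q + 1) * (q + 1) * c = q ^ (4 * (4 - 1) / 2) * prU q 4 at h
  have h1 : prU q 4 = (q + 1) * (q ^ 2 - 1) * (q ^ 3 + 1) * (q ^ 4 - 1) := by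
    unfold prU
    rw [prod_list]
    simp [Finset.prod_range_succ]
  rw [h1] at h
  apply Nat.eq_of_mul_eq_mul_left (show 0 < q + 1 by omega)
  calc (q + 1) * (Nat.gcd 4 (q + 1) * c) = Nat.gcd 4 (q + 1) * (q + 1) * c := by ring
    _ = _ := by rw [h]; ring

theorem gcd_four {x : ℕ} : (x % 4 = 2 → Nat.gcd 4 x = 2) ∧ (x % 4 = 0 → Nat.gcd 4 x = 4) := by
  constructor
  · intro h
    rw [Nat.gcd_rec, h]
    rfl
  · intro h
    rw [Nat.gcd_rec, h]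
    rfl

theorem four_lin {q c s t : ℕ} (hq : Odd q) (hq1 : 1 < q) (hst : s % 8 = t % 8) (hte : t % 2 = 0)
    (h35 : (q % 8 = 3 ∨ q % 8 = 5) → t % 8 ≠ 0) (h17 : (q % 8 = 1 ∨ q % 8 = 7) → t % 8 ≠ 4)
    (h : Nat.gcd 4 t * c = q ^ 6 * ((q ^ 2 - 1) * s * (q ^ 4 - 1))) (h8 : 2 ^ 8 ∣ c) : 2 ^ 9 ∣ c := by
  have hqq : Odd (q ^ 6) := hq.pow
  have h1 : 1 ≤ q ^ 2 := Nat.one_le_pow _ _ (by omega)
  have h2 : 1 ≤ q ^ 4 := Nat.one_le_pow _ _ (by omega)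
  have hcase : (q % 8 = 3 ∨ q % 8 = 5) ∨ (q % 8 = 1 ∨ q % 8 = 7) := by
    rcases odd_mod hq with h | h | h | h <;> omega
  rcases hcase with hc | hc
  · exfalso
    have hx : (q ^ 2 - 1) % (2 * 2 ^ 3) = 2 ^ 3 := mod_sub_one h1 (by norm_num) (by norm_num) (sq16_b hc)
    have hz : (q ^ 4 - 1) % (2 * 2 ^ 4) = 2 ^ 4 := mod_sub_one h2 (by norm_num) (by norm_num) (four32_b hc)
    have h0 := h35 hc
    by_cases h4 : t % 8 = 4
    · rw [gcd_four.2 (by omega)] at h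
      have hs : s % (2 * 2 ^ 2) = 2 ^ 2 := by
        norm_num
        omega
      exact no_dvd (d := 2) (j := 2) hx hs hz hqq h h8
    · rw [gcd_four.1 (by omega)] at h
      have hs : s % (2 * 2 ^ 1) = 2 ^ 1 := by
        norm_num
        omega
      exact no_dvd (d := 1) (j := 1) hx hs hz hqq (by rw [pow_one]; exact h) h8
  · have h16 := sixteen (by omega) hc
    have h32 := thirtytwo (by omega) hc
    have h0 := h17 hc
    by_cases h4 : t % 8 = 0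
    · rw [gcd_four.2 (by omega)] at h
      have hs : 8 ∣ s := Nat.dvd_of_mod_eq_zero (by omega)
      refine of_mul_dvd (by norm_num) h ?_
      exact (show 4 * 2 ^ 9 ∣ 16 * 8 * 32 by norm_num).trans
        ((mul_dvd_mul (mul_dvd_mul h16 hs) h32).trans (Dvd.intro_left _ rfl))
    · rw [gcd_four.1 (by omega)] at h
      have hs : 2 ∣ s := Nat.dvd_of_mod_eq_zero (by omega)
      refine of_mul_dvd (by norm_num) h ?_
      exact (show 2 * 2 ^ 9 ∣ 16 * 2 * 32 by norm_num).trans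
        ((mul_dvd_mul (mul_dvd_mul h16 hs) h32).trans (Dvd.intro_left _ rfl))

theorem psl4 {q c : ℕ} (hq : Odd q) (hq1 : 1 < q) (h : fPSL.den 4 q * c = fPSL.num 4 q) (h8 : 2 ^ 8 ∣ c) :
    2 ^ 9 ∣ c := by
  have h3 := cube8 hq
  have h4 : 1 ≤ q ^ 3 := Nat.one_le_pow _ _ (by omega)
  refine four_lin hq hq1 (s := q ^ 3 - 1) (t := q - 1) ?_ ?_ ?_ ?_ (psl4_eq hq1 h) h8
  · omega
  · rcases odd_mod hq with h | h | h | h <;> omega
  · intro h; omega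
  · intro h; omega

theorem psu4 {q c : ℕ} (hq : Odd q) (hq1 : 1 < q) (h : fPSU.den 4 q * c = fPSU.num 4 q) (h8 : 2 ^ 8 ∣ c) :
    2 ^ 9 ∣ c := by
  have h3 := cube8 hq
  refine four_lin hq hq1 (s := q ^ 3 + 1) (t := q + 1) ?_ ?_ ?_ ?_ (psu4_eq h) h8
  · omega
  · rcases odd_mod hq with h | h | h | h <;> omega
  · intro h; omega
  · intro h; omega

/-! ### `PSL_5(q)` and `PSU_5(q)` -/

theorem psl5 {q c : ℕ} (hq : Odd q) (hq1 : 1 < q) (h : fPSL.den 5 q * c = fPSL.num 5 q) : 2 ^ 9 ∣ c := by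
  change Nat.gcd 5 (q - 1) * (q - 1) * c = glN 5 q at h
  rw [glN_eq] at h
  simp only [Finset.prod_range_succ, Finset.prod_range_zero, one_mul, zero_add, pow_one, Nat.reduceAdd, pow_zero] at h
  have h1 : Nat.gcd 5 (q - 1) * c = q ^ 10 * ((q ^ 2 - 1) * (q ^ 4 - 1) * (q ^ 3 - 1) * (q ^ 5 - 1)) := by
    apply Nat.eq_of_mul_eq_mul_left (show 0 < q - 1 by omega)
    calc (q - 1) * (Nat.gcd 5 (q - 1) * c) = Nat.gcd 5 (q - 1) * (q - 1) * c := by ring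
      _ = _ := by rw [h]; ring
  have h2 : 2 ^ 9 ∣ Nat.gcd 5 (q - 1) * c := by
    rw [h1]
    exact (show 2 ^ 9 ∣ 8 * 16 * 2 * 2 by norm_num).trans
      ((mul_dvd_mul (mul_dvd_mul (mul_dvd_mul (e2 hq) (e4 hq)) (two_dvd_pow_sub 3 hq)) (two_dvd_pow_sub 5 hq)).trans
        (Dvd.intro_left _ rfl))
  have h3 : Nat.Coprime (2 ^ 9) (Nat.gcd 5 (q - 1)) := Nat.Coprime.coprime_dvd_right (Nat.gcd_dvd_left _ _) (by norm_num)
  exact h3.dvd_of_dvd_mul_left h2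

theorem psu5 {q c : ℕ} (hq : Odd q) (h : fPSU.den 5 q * c = fPSU.num 5 q) : 2 ^ 9 ∣ c := by
  change Nat.gcd 5 (q + 1) * (q + 1) * c = q ^ (5 * (5 - 1) / 2) * prU q 5 at h
  have h0 : prU q 5 = (q + 1) * (q ^ 2 - 1) * (q ^ 3 + 1) * (q ^ 4 - 1) * (q ^ 5 + 1) := by
    unfold prU
    rw [prod_list]
    simp [Finset.prod_range_succ]
  rw [h0] at h
  have h1 : Nat.gcd 5 (q + 1) * c = q ^ 10 * ((q ^ 2 - 1) * (q ^ 4 - 1) * (q ^ 3 + 1) * (q ^ 5 + 1)) := by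
    apply Nat.eq_of_mul_eq_mul_left (show 0 < q + 1 by omega)
    calc (q + 1) * (Nat.gcd 5 (q + 1) * c) = Nat.gcd 5 (q + 1) * (q + 1) * c := by ring
      _ = _ := by rw [h]; ring
  have h2 : 2 ^ 9 ∣ Nat.gcd 5 (q + 1) * c := by
    rw [h1]
    exact (show 2 ^ 9 ∣ 8 * 16 * 2 * 2 by norm_num).trans
      ((mul_dvd_mul (mul_dvd_mul (mul_dvd_mul (e2 hq) (e4 hq)) (two_dvd_pow_add 3 hq)) (two_dvd_pow_add 5 hq)).trans
        (Dvd.intro_left _ rfl))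
  have h3 : Nat.Coprime (2 ^ 9) (Nat.gcd 5 (q + 1)) := Nat.Coprime.coprime_dvd_right (Nat.gcd_dvd_left _ _) (by norm_num)
  exact h3.dvd_of_dvd_mul_left h2

/-! ### `PSp_6(q)` and `PΩ₇(q)` -/

theorem psp3 {q c : ℕ} (hq : Odd q) (h : fPSp.den 3 q * c = fPSp.num 3 q) : 2 ^ 9 ∣ c := by
  have h0 : 0 < fPSp.den 3 q := Nat.gcd_pos_of_pos_left _ (by omega)
  refine of_mul_dvd h0 h ?_
  change Nat.gcd 2 (q - 1) * 2 ^ 9 ∣ q ^ (3 ^ 2) * prB q 3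
  refine (Nat.mul_dvd_mul_right (Nat.gcd_dvd_left _ _) _).trans ?_
  have h1 := d3 hq
  exact (show 2 * 2 ^ 9 ∣ 2 ^ 10 by norm_num).trans (h1.trans (Dvd.intro_left _ rfl))

theorem oodd3 {q c : ℕ} (hq : Odd q) (h : 2 * c = fOOdd.num 3 q) : 2 ^ 9 ∣ c := by
  refine of_mul_dvd (by norm_num) h ?_
  change 2 * 2 ^ 9 ∣ q ^ (3 ^ 2) * prB q 3
  have h1 := d3 hq
  exact (show 2 * 2 ^ 9 ∣ 2 ^ 10 by norm_num).trans (h1.trans (Dvd.intro_left _ rfl))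

theorem oodd3_mod {q c : ℕ} (hq : Odd q) (h : 2 * c = fOOdd.num 3 q) (h10 : ¬ 2 ^ 10 ∣ c) :
    q % 8 = 3 ∨ q % 8 = 5 := by
  have hq1 : 1 ≤ q := hq.pos
  by_contra hne
  have hc : q % 8 = 1 ∨ q % 8 = 7 := by
    rcases odd_mod hq with h | h | h | h <;> omega
  apply h10
  refine of_mul_dvd (by norm_num) h ?_
  change 2 * 2 ^ 10 ∣ q ^ (3 ^ 2) * prB q 3
  rw [prB_three]
  exact (show 2 * 2 ^ 10 ∣ 16 * 32 * 8 by norm_num).trans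
    ((mul_dvd_mul (mul_dvd_mul (sixteen hq1 hc) (thirtytwo hq1 hc)) (e2k 3 hq)).trans (Dvd.intro_left _ rfl))

/-! ### the Ree groups -/

theorem ree_mod (m : ℕ) : 3 ^ (2 * m + 1) % 8 = 3 := by
  induction m with
  | zero => rfl
  | succ m ih =>
    have : 3 ^ (2 * (m + 1) + 1) = 9 * 3 ^ (2 * m + 1) := by ring
    omega

theorem ree {q c : ℕ} (hq : q % 8 = 3) (h : c = q ^ 3 * (q - 1) * (q ^ 3 + 1)) : ¬ 2 ^ 4 ∣ c := by
  have hodd : Odd q := Nat.odd_iff.2 (by omega)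
  have h3 := cube8 hodd
  have hx : (q - 1) % (2 * 2 ^ 1) = 2 ^ 1 := by
    norm_num
    omega
  have hy : (q ^ 3 + 1) % (2 * 2 ^ 2) = 2 ^ 2 := by
    norm_num
    omega
  have hz : 1 % (2 * 2 ^ 0) = 2 ^ 0 := by norm_num
  exact no_dvd (d := 0) hx hy hz (hodd.pow (n := 3)) (by rw [h]; ring)

/-! ### an even 2-part -/

theorem even_part {x y c : ℕ} (hx : 0 < x) (hy : Odd y) (h : c = x ^ 2 * y) (h9 : 2 ^ 9 ∣ c) : 2 ^ 10 ∣ c := by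
  have hy0 : y ≠ 0 := hy.pos.ne'
  have hc : c ≠ 0 := by rw [h]; positivity
  have h1 : c.factorization 2 = 2 * x.factorization 2 := by
    rw [h, Nat.factorization_mul (by positivity) hy0, Nat.factorization_pow]
    simp only [Finsupp.add_apply, Finsupp.smul_apply, smul_eq_mul]
    rw [Nat.factorization_eq_zero_of_not_dvd (n := y), add_zero]
    intro hd
    exact (Nat.not_even_iff_odd.2 hy) (even_iff_two_dvd.2 hd)
  have h2 := (Nat.prime_two.pow_dvd_iff_le_factorization hc).1 h9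
  rw [Nat.prime_two.pow_dvd_iff_le_factorization hc]
  omega

theorem even_g2 {q c : ℕ} (hq : Odd q) (hq1 : 1 < q) (h : c = q ^ 6 * (q ^ 2 - 1) * (q ^ 6 - 1)) (h9 : 2 ^ 9 ∣ c) :
    2 ^ 10 ∣ c := by
  have h0 : 2 ^ 2 ≤ q ^ 2 := Nat.pow_le_pow_left hq1 2
  obtain ⟨x, hx⟩ : ∃ x, q ^ 2 = x + 1 := ⟨q ^ 2 - 1, by omega⟩
  have h6 : q ^ 6 - 1 = (q ^ 2 - 1) * (q ^ 4 + q ^ 2 + 1) := by
    rw [show q ^ 6 = (q ^ 2) ^ 3 by ring, show q ^ 4 = (q ^ 2) ^ 2 by ring, hx, Nat.add_sub_cancel]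
    rw [Nat.sub_eq_iff_eq_add (Nat.one_le_pow _ _ (by omega))]
    ring
  have hy : Odd (q ^ 4 + q ^ 2 + 1) := ((hq.pow).add_odd (hq.pow)).add_one
  refine even_part (x := q ^ 2 - 1) (y := q ^ 6 * (q ^ 4 + q ^ 2 + 1)) (by omega) ((hq.pow).mul hy) ?_ h9
  rw [h, h6]
  ring

theorem even_td4 {q c : ℕ} (hq : Odd q) (hq1 : 1 < q)
    (h : c = q ^ 12 * (q ^ 2 - 1) * (q ^ 6 - 1) * (q ^ 8 + q ^ 4 + 1)) (h9 : 2 ^ 9 ∣ c) : 2 ^ 10 ∣ c := by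
  have h0 : 2 ^ 2 ≤ q ^ 2 := Nat.pow_le_pow_left hq1 2
  obtain ⟨x, hx⟩ : ∃ x, q ^ 2 = x + 1 := ⟨q ^ 2 - 1, by omega⟩
  have h6 : q ^ 6 - 1 = (q ^ 2 - 1) * (q ^ 4 + q ^ 2 + 1) := by
    rw [show q ^ 6 = (q ^ 2) ^ 3 by ring, show q ^ 4 = (q ^ 2) ^ 2 by ring, hx, Nat.add_sub_cancel]
    rw [Nat.sub_eq_iff_eq_add (Nat.one_le_pow _ _ (by omega))]
    ring
  have hy : Odd (q ^ 4 + q ^ 2 + 1) := ((hq.pow).add_odd (hq.pow)).add_one
  have hy' : Odd (q ^ 8 + q ^ 4 + 1) := ((hq.pow).add_odd (hq.pow)).add_one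
  refine even_part (x := q ^ 2 - 1) (y := q ^ 12 * (q ^ 4 + q ^ 2 + 1) * (q ^ 8 + q ^ 4 + 1)) (by omega)
    (((hq.pow).mul hy).mul hy') ?_ h9
  rw [h, h6]
  ring

/-! ### alternating groups -/

theorem alt8 {G : Type u} [Group G] {n : ℕ} (hn : 5 ≤ n) (hn' : n ≤ 13) (e : G ≃* ↥(alternatingGroup (Fin n)))
    (h8 : 2 ^ 8 ∣ Nat.card G) : 2 ^ 9 ∣ Nat.card G ∧ (n = 12 ∨ n = 13) := by
  have h := alt_card hn e
  interval_cases n
  all_goals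
    simp only [Nat.factorial, Nat.succ_eq_add_one] at h
    omega

end Cfsg.Agent.H285.TwoExact
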