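import Cfsg.Prelude.Def_CaseTheorems
import Cfsg.Agent.H285.LyOrd
import Cfsg.Agent.H285.TwoExact
import Cfsg.Agent.H285.PglRank
import Cfsg.Agent.H285.D4Sylow
import Cfsg.Agent.OddOrderLocal.Rank
import Cfsg.Agent.OrdDiv.Table
import Cfsg.Agent.S0000
import Cfsg.Agent.S1702
import Cfsg.Agent.S0482
import Cfsg.Agent.S0509
import Cfsg.Agent.S1740
import Cfsg.Agent.S1742

/-!
# Simple groups with Sylow 2-subgroups of Lyons type
-/

set_option autoImplicit false

namespace Cfsg.Agent.H285.LyEnd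

open Cfsg Cfsg.Agent.OrdDiv Cfsg.Agent.H285.LyOrd

universe u v

instance fact2 : Fact (Nat.Prime 2) := ⟨Nat.prime_two⟩

instance simple_ly : IsSimpleGroup Cfsg.Spor.Ly := S1702.result.1

theorem card_ly : Nat.card Cfsg.Spor.Ly = NLy := S1702.result.2

instance finite_ly : Finite Cfsg.Spor.Ly := Nat.finite_of_card_ne_zero (by rw [card_ly]; decide)

/-- transport of a Sylow subgroup -/
theorem transport {G : Type u} {X : Type v} [Group G] [Group X] [Finite G] [Finite X] (e : G ≃* X) (S : Sylow 2 G) :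
    ∃ Q : Sylow 2 X, Nonempty (↥(S : Subgroup G) ≃* ↥(Q : Subgroup X)) := by
  refine ⟨S.mapSurjective (f := e.toMonoidHom) e.surjective, ⟨?_⟩⟩
  exact (e.subgroupMap (S : Subgroup G))

theorem not_comm_ly : ¬ IsMulCommutative Cfsg.Spor.Ly := by
  intro h
  have h1 : IsSimpleGroup Cfsg.Spor.Ly := simple_ly
  let _ : CommGroup Cfsg.Spor.Ly := { (inferInstance : Group Cfsg.Spor.Ly) with mul_comm := h.is_comm.comm }
  have h2 : (Nat.card Cfsg.Spor.Ly).Prime := IsSimpleGroup.prime_card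
  rw [card_ly] at h2
  have h3 := (Nat.prime_dvd_prime_iff_eq Nat.prime_two h2).1 (Nat.dvd_of_mod_eq_zero (by decide))
  exact absurd h3 (by decide)

/-- a nonabelian simple group is not commutative, in the form used by the order engine -/
theorem not_all_comm {G : Type u} [Group G] (hG : ¬ IsMulCommutative G) : ¬ ∀ a b : G, a * b = b * a :=
  fun h => hG ⟨⟨h⟩⟩

theorem ne_of_equiv {X : Type u} [Group X] (e : Cfsg.Spor.Ly ≃* X) (h : Nat.card X ≠ NLy) : False :=
  h ((Nat.card_congr e.toEquiv).symm.trans card_ly)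

theorem card_pos_of_odd {F : Type} [Field F] [Fintype F] (hF : Odd (Fintype.card F)) : 3 ≤ Fintype.card F := by
  have h1 : 1 < Fintype.card F := Fintype.one_lt_card
  obtain ⟨k, hk⟩ := hF
  omega

theorem q_ge {F : Type} [Field F] [Fintype F] {q k : ℕ} (hF : Fintype.card F = q ^ k) : 1 < q := by
  have h1 : 1 < Fintype.card F := Fintype.one_lt_card
  rw [hF] at h1
  by_contra hlt
  have h2 : q ≤ 1 := by omega
  exact absurd (Nat.pow_le_pow_left h2 k) (by rw [one_pow]; omega)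

/-- the 2-rank of the Lyons group is at least three -/
theorem rank_ly : ¬ PRankLE 2 2 Cfsg.Spor.Ly := by
  intro h
  rcases S0482.result not_comm_ly h with h | h | h | h | h | h
  · obtain ⟨F, _, _, hF, h5, ⟨e⟩⟩ := h
    exact ne_of_equiv e (LyOrd.psl le_rfl (fun _ => by omega))
  · obtain ⟨F, _, _, hF, ⟨e⟩⟩ := h
    exact ne_of_equiv e (LyOrd.psl (by norm_num) (fun h => by omega))
  · obtain ⟨F, _, _, q, hF, hq, ⟨e⟩⟩ := h
    exact ne_of_equiv e (LyOrd.psu hF le_rfl (fun h => by rw [h.2] at hq; exact absurd hq (by decide)))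
  · obtain ⟨F, _, _, hF, ⟨e⟩⟩ := h
    exact ne_of_equiv e (LyOrd.psu (q := 4) (by rw [hF]; norm_num) le_rfl (fun h => by omega))
  · obtain ⟨e⟩ := h
    exact LyOrd.alt (by norm_num) (by norm_num) e card_ly
  · have h1 := h.2
    rw [card_ly] at h1
    exact absurd h1 (by decide)

/-- `PSp_4(q)`, `q` odd -/
theorem case_psp {F : Type} [Field F] [Fintype F] (hF : Odd (Fintype.card F)) (P : Sylow 2 Cfsg.Spor.Ly)
    (Q : Sylow 2 (PSp 2 F)) (h : Nonempty (↥(P : Subgroup Cfsg.Spor.Ly) ≃* ↥(Q : Subgroup (PSp 2 F)))) : False := by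
  rcases S0509.result hF P Q h with h | h | h
  · obtain ⟨K, _, _, hK, ⟨e⟩⟩ := h
    exact ne_of_equiv e (LyOrd.psp le_rfl (fun _ => card_pos_of_odd hK))
  · obtain ⟨e⟩ := h
    exact LyOrd.alt (by norm_num) (by norm_num) e card_ly
  · obtain ⟨e⟩ := h
    exact LyOrd.alt (by norm_num) (by norm_num) e card_ly

/-- `G₂(q)`, `q` odd -/
theorem case_g2 {F : Type} [Field F] [Fintype F] (hF : Odd (Fintype.card F)) (P : Sylow 2 Cfsg.Spor.Ly)
    (Q : Sylow 2 ↥(Lie.chevG2.group F))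
    (h : Nonempty (↥(P : Subgroup Cfsg.Spor.Ly) ≃* ↥(Q : Subgroup ↥(Lie.chevG2.group F)))) : False := by
  rcases S1742.result hF P Q h with h | h | h
  · obtain ⟨K, _, _, hK, ⟨e⟩⟩ := h
    exact ne_of_equiv e (LyOrd.g2 OrdDiv.table.{0} (card_pos_of_odd hK))
  · obtain ⟨K, _, _, r, hr, hK, ⟨e⟩⟩ := h
    have hpp : IsPrimePow (r ^ 3) := by rw [← hK]; exact Fintype.isPrimePow_card_of_field
    rw [isPrimePow_pow_iff (by norm_num)] at hpp
    exact ne_of_equiv e (LyOrd.td4 OrdDiv.table.{0} hpp hK)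
  · have h1 := OrdDiv.table.{0}.spor Cfsg.Spor.Ly (.m12, 95040) (by decide) h
    rw [card_ly] at h1
    exact absurd h1 (by decide)

/-- the groups of Bender's type -/
theorem case_even (P : Sylow 2 Cfsg.Spor.Ly) {n : ℕ} (hn : 2 ≤ n)
    (h : ∃ (F : Type) (_ : Field F) (_ : Fintype F), Fintype.card F = 2 ^ n ∧
      ((∃ Q : Sylow 2 (Matrix.ProjectiveSpecialLinearGroup (Fin 2) F), Nonempty (↥(P : Subgroup Cfsg.Spor.Ly) ≃* ↥(Q : Subgroup (Matrix.ProjectiveSpecialLinearGroup (Fin 2) F)))) ∨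
      (∃ Q : Sylow 2 (Matrix.ProjectiveSpecialLinearGroup (Fin 3) F), Nonempty (↥(P : Subgroup Cfsg.Spor.Ly) ≃* ↥(Q : Subgroup (Matrix.ProjectiveSpecialLinearGroup (Fin 3) F)))) ∨
      (2 ≤ n ∧ (∃ Q : Sylow 2 (Cfsg.PSp 2 F), Nonempty (↥(P : Subgroup Cfsg.Spor.Ly) ≃* ↥(Q : Subgroup (Cfsg.PSp 2 F))))))) :
    False := by
  rcases S1740.result not_comm_ly rank_ly P n (Or.inl h) with h | h | h | h | h
  · obtain ⟨F, _, _, hF, h⟩ := h
    have h4 : 4 ≤ Fintype.card F := by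
      rw [hF]
      exact (show 4 = 2 ^ 2 by norm_num) ▸ Nat.pow_le_pow_right (by norm_num) hn
    rcases h with h | h | h
    · obtain ⟨e⟩ := h
      exact ne_of_equiv e (LyOrd.psl le_rfl (fun _ => h4))
    · obtain ⟨e⟩ := h
      exact ne_of_equiv e (LyOrd.psl (by norm_num) (fun h => by omega))
    · obtain ⟨e⟩ := h
      exact ne_of_equiv e (LyOrd.psp le_rfl (fun _ => by omega))
  · obtain ⟨F, _, _, hF, ⟨e⟩⟩ := h
    have h4 : 2 < 2 ^ n := lt_of_lt_of_le (show 2 < 2 ^ 2 by norm_num) (Nat.pow_le_pow_right (by norm_num) hn)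
    exact ne_of_equiv e (LyOrd.psu (q := 2 ^ n) (by rw [hF, ← pow_mul, mul_comm, pow_mul]; norm_num) le_rfl
      (fun h => by omega))
  · obtain ⟨m, hm, hnm, F, _, _, hF, ⟨e⟩⟩ := h
    exact ne_of_equiv e (LyOrd.sz OrdDiv.table.{0} hm (by rw [hF, hnm]))
  · obtain ⟨F, _, _, m, hm, hF, ⟨e⟩⟩ := h
    exact ne_of_equiv e (LyOrd.ree OrdDiv.table.{0} hm hF)
  · have h1 := OrdDiv.table.{0}.spor Cfsg.Spor.Ly (.j1, 175560) (by decide) h
    rw [card_ly] at h1
    exact absurd h1 (by decide)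

/-- **The theorem.** -/
theorem main {G : Type u} [Group G] [Finite G] [IsSimpleGroup G] (hG : ¬ IsMulCommutative G) (S : Sylow 2 G)
    (hS : ∃ P : Sylow 2 Cfsg.Spor.Ly, Nonempty (↥(S : Subgroup G) ≃* ↥(P : Subgroup Cfsg.Spor.Ly))) :
    Cfsg.Spor.IsoLy G := by
  obtain ⟨P, ⟨f⟩⟩ := hS
  -- the 2-part of the order
  have hcard : Nat.card ↥(S : Subgroup G) = 2 ^ 8 := by
    rw [Nat.card_congr f.toEquiv, P.card_eq_multiplicity, card_ly]
    congr 1
    have h0 : NLy ≠ 0 := by decide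
    apply le_antisymm
    · by_contra hlt
      have h1 := (Nat.prime_two.pow_dvd_iff_le_factorization h0 (k := 9)).2 (by omega)
      exact absurd (Nat.mod_eq_zero_of_dvd h1) (by decide)
    · exact (Nat.prime_two.pow_dvd_iff_le_factorization h0 (k := 8)).1 (Nat.dvd_of_mod_eq_zero (by decide))
  have h8 : 2 ^ 8 ∣ Nat.card G := by rw [← hcard]; exact Subgroup.card_subgroup_dvd_card _
  have h9 : ¬ 2 ^ 9 ∣ Nat.card G := by
    intro h
    have h1 := S.card_eq_multiplicity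
    rw [hcard] at h1
    have h2 := (Nat.prime_two.pow_dvd_iff_le_factorization Nat.card_pos.ne').1 h
    have h3 := Nat.pow_right_injective le_rfl h1
    omega
  have h10 : ¬ 2 ^ 10 ∣ Nat.card G := fun h => h9 ((pow_dvd_pow 2 (by norm_num)).trans h)
  -- the Sylow subgroup has an elementary abelian subgroup of order 8
  have hr : ¬ PRankLE 2 2 G := by
    intro h
    apply rank_ly
    rw [← Cfsg.Agent.OddOrderLocal.Rank.pRankLE_sylow P]
    exact Cfsg.Agent.NotResT.TwoRank.prank_congr f.symm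
      ((Cfsg.Agent.OddOrderLocal.Rank.pRankLE_sylow S).2 h)
  rcases TwoPart.main OrdDiv.table.{u} (S0000.result (G := G)) (not_all_comm hG) h10 with
    h | h | h | h | h | h | h | h | h
  · obtain ⟨n, hn, hn', ⟨e⟩⟩ := h
    exact absurd (TwoExact.alt8 hn hn' e h8).1 h9
  · obtain ⟨F, _, _, n, hF, hn, hn', ⟨e⟩⟩ := h
    exfalso
    have hcc := Nat.card_congr e.toEquiv
    have hc := TwoPart.psl_card (F := F) hn
    rw [hcc] at h8 h9
    have hq1 : 1 < Fintype.card F := Fintype.one_lt_card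
    obtain rfl | rfl | rfl | rfl : n = 2 ∨ n = 3 ∨ n = 4 ∨ n = 5 := by omega
    · exact hr (Cfsg.Agent.NotResT.TwoRank.prank_congr e (Cfsg.Agent.NotResT.TwoRank.prank_psl_two hF))
    · exact hr (Cfsg.Agent.NotResT.TwoRank.prank_congr e (Cfsg.Agent.NotResT.TwoRank.prank_psl_three hF))
    · exact h9 (TwoExact.psl4 hF hq1 hc h8)
    · exact h9 (TwoExact.psl5 hF hq1 hc)
  · obtain ⟨F, _, _, m, hF, hm, hm', ⟨e⟩⟩ := h
    exfalso
    have hcc := Nat.card_congr e.toEquiv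
    have hc := TwoPart.psp_card (F := F) (m := m) (by omega)
    rw [hcc] at h8 h9
    obtain rfl | rfl : m = 2 ∨ m = 3 := by omega
    · have hfin : Finite (PSp 2 F) := Finite.of_equiv _ e.toEquiv
      obtain ⟨Q, ⟨e2⟩⟩ := transport e S
      exact case_psp hF P Q ⟨f.symm.trans e2⟩
    · exact h9 (TwoExact.psp3 hF hc)
  · obtain ⟨F, _, _, n, q, hF, hq, hn, hn', ⟨e⟩⟩ := h
    exfalso
    have hcc := Nat.card_congr e.toEquiv
    have hc := TwoPart.psu_card hF (n := n) (by omega)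
    rw [hcc] at h8 h9
    have hq1 : 1 < q := q_ge hF
    obtain rfl | rfl | rfl : n = 3 ∨ n = 4 ∨ n = 5 := by omega
    · exact hr (Cfsg.Agent.NotResT.TwoRank.prank_congr e (Cfsg.Agent.NotResT.TwoRank.prank_psu_three hF hq))
    · exact h9 (TwoExact.psu4 hq hq1 hc h8)
    · exact h9 (TwoExact.psu5 hq hc)
  · obtain ⟨F, _, _, hF, ⟨e⟩⟩ := h
    exfalso
    have hcc := Nat.card_congr e.toEquiv
    rw [hcc] at h8 h9
    exact h9 (TwoExact.oodd3 hF (TwoPart.oodd_card le_rfl hF))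
  · obtain ⟨F, _, _, hF, ⟨e⟩⟩ := h
    exfalso
    have hfin : Finite ↥(Lie.chevG2.group F) := Finite.of_equiv _ e.toEquiv
    obtain ⟨Q, ⟨e2⟩⟩ := transport e S
    exact case_g2 hF P Q ⟨f.symm.trans e2⟩
  · obtain ⟨K, _, _, q, hq, hqp, hK, ⟨e⟩⟩ := h
    exfalso
    have hfin : Finite ↥(Lie.twistedD4 K q) := Finite.of_equiv _ e.toEquiv
    obtain ⟨Q, ⟨e2⟩⟩ := transport e S
    -- a field with `q` elements
    obtain ⟨p, k, hp, hk, hpk⟩ := (isPrimePow_nat_iff q).1 hqp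
    have : Fact p.Prime := ⟨hp⟩
    let F := GaloisField p k
    let _ : Fintype F := Fintype.ofFinite F
    have hF : Fintype.card F = q := by
      rw [← Nat.card_eq_fintype_card, GaloisField.card p k (by omega), hpk]
    obtain ⟨R⟩ : Nonempty (Sylow 2 ↥(Lie.chevG2.group F)) := inferInstance
    obtain ⟨e3⟩ := D4Sylow.sylow_equiv hq hK Q hF (OrdDiv.table.{0}.g2 F) R
    exact case_g2 (by rw [hF]; exact hq) P R ⟨(f.symm.trans e2).trans e3⟩
  · exfalso
    obtain ⟨F, _, _, m, hm, hF, ⟨e⟩⟩ := h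
    have hcc := Nat.card_congr e.toEquiv
    rw [hcc] at h8
    exact TwoExact.ree (TwoExact.ree_mod m) (by rw [OrdDiv.table.{0}.ree F m hm hF])
      ((pow_dvd_pow 2 (by norm_num)).trans h8)
  · obtain ⟨g, hg, hreal, hord⟩ := h
    have h1 : ∀ g ∈ TwoPart.small, 2 ^ 8 ∣ ordN g → ¬ 2 ^ 9 ∣ ordN g →
        g = .psl 2 256 ∨ g = .psp 2 4 ∨ g = .ly := by
      rw [TwoPart.small_eq]
      decide +kernel
    rw [hord] at h8 h9
    rcases h1 g hg h8 h9 with rfl | rfl | rfl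
    · exfalso
      obtain ⟨F, _, _, hF, ⟨e⟩⟩ := hreal
      have hfin : Finite (Matrix.ProjectiveSpecialLinearGroup (Fin 2) F) := Finite.of_equiv _ e.toEquiv
      obtain ⟨Q, ⟨e2⟩⟩ := transport e S
      exact case_even P (n := 8) (by norm_num) ⟨F, inferInstance, inferInstance, by rw [hF]; norm_num,
        Or.inl ⟨Q, ⟨f.symm.trans e2⟩⟩⟩
    · exfalso
      obtain ⟨F, _, _, hF, ⟨e⟩⟩ := hreal
      have hfin : Finite (PSp 2 F) := Finite.of_equiv _ e.toEquiv
      obtain ⟨Q, ⟨e2⟩⟩ := transport e S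
      exact case_even P (n := 2) le_rfl ⟨F, inferInstance, inferInstance, by rw [hF]; norm_num,
        Or.inr (Or.inr ⟨le_rfl, Q, ⟨f.symm.trans e2⟩⟩)⟩
    · exact hreal

end Cfsg.Agent.H285.LyEnd
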