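import Cfsg.Agent.H285.AltTwelve
import Cfsg.Agent.H285.TwoExact
import Cfsg.Agent.H285.PglRank
import Cfsg.Agent.H285.LyEnd
import Cfsg.Agent.OddOrderLocal.Rank
import Cfsg.Agent.OrdDiv.Table
import Cfsg.Agent.SevenCases.TabFin
import Cfsg.Agent.S0000
import Cfsg.Agent.S1740
import Cfsg.Agent.S1777

/-!
# Simple groups with Sylow 2-subgroups of the type of the alternating group of degree 12
-/

set_option autoImplicit false

namespace Cfsg.Agent.H285.AltEnd

open Cfsg Cfsg.Agent.OrdDiv Cfsg.Agent.H285.AltTwelve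

universe u v

/-- the alternating group of degree 12 -/
abbrev A : Type := ↥(alternatingGroup (Fin 12))

theorem ne_of_equiv {X : Type u} [Group X] (e : A ≃* X) (h : Nat.card X ≠ NA) : False :=
  h ((Nat.card_congr e.toEquiv).symm.trans card_alt)

theorem case_bender (P : Sylow 2 A) {n : ℕ} (hn : 2 ≤ n)
    (hS : (∃ (F : Type) (_ : Field F) (_ : Fintype F), Fintype.card F = 2 ^ n ∧ ((∃ Q : Sylow 2 (Matrix.ProjectiveSpecialLinearGroup (Fin 2) F), Nonempty (↥(P : Subgroup A) ≃* ↥(Q : Subgroup (Matrix.ProjectiveSpecialLinearGroup (Fin 2) F)))) ∨ (∃ Q : Sylow 2 (Matrix.ProjectiveSpecialLinearGroup (Fin 3) F), Nonempty (↥(P : Subgroup A) ≃* ↥(Q : Subgroup (Matrix.ProjectiveSpecialLinearGroup (Fin 3) F)))) ∨ (2 ≤ n ∧ (∃ Q : Sylow 2 (Cfsg.PSp 2 F), Nonempty (↥(P : Subgroup A) ≃* ↥(Q : Subgroup (Cfsg.PSp 2 F))))))) ∨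
      (∃ (F : Type) (_ : Field F) (_ : Fintype F), Fintype.card F = 4 ^ n ∧ (∃ Q : Sylow 2 (Cfsg.PSU 3 F (2 ^ n)), Nonempty (↥(P : Subgroup A) ≃* ↥(Q : Subgroup (Cfsg.PSU 3 F (2 ^ n)))))) ∨
      (∃ m : ℕ, 1 ≤ m ∧ n = 2 * m + 1 ∧ ∃ (F : Type) (_ : Field F) (_ : Fintype F), Fintype.card F = 2 ^ n ∧ (∃ Q : Sylow 2 ↥(Cfsg.Lie.Sz F (2 ^ (m + 1))), Nonempty (↥(P : Subgroup A) ≃* ↥(Q : Subgroup ↥(Cfsg.Lie.Sz F (2 ^ (m + 1)))))))) :
    False := by
  rcases S1740.result AltTwelve.not_comm (fun h => AltTwelve.rank (rank_mono (by norm_num) h)) P n hS with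
    h | h | h | h | h
  · obtain ⟨F, _, _, hF, h⟩ := h
    have h4 : 4 ≤ Fintype.card F := by
      rw [hF]
      exact (show 4 = 2 ^ 2 by norm_num) ▸ Nat.pow_le_pow_right (by norm_num) hn
    rcases h with h | h | h
    · obtain ⟨e⟩ := h
      exact ne_of_equiv e (AltTwelve.psl le_rfl (fun _ => h4))
    · obtain ⟨e⟩ := h
      exact ne_of_equiv e (AltTwelve.psl (by norm_num) (fun h => by omega))
    · obtain ⟨e⟩ := h
      exact ne_of_equiv e (AltTwelve.psp le_rfl (fun _ => by omega))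
  · obtain ⟨F, _, _, hF, ⟨e⟩⟩ := h
    have h4 : 2 < 2 ^ n := lt_of_lt_of_le (show 2 < 2 ^ 2 by norm_num) (Nat.pow_le_pow_right (by norm_num) hn)
    exact ne_of_equiv e (AltTwelve.psu (q := 2 ^ n) (by rw [hF, ← pow_mul, mul_comm, pow_mul]; norm_num) le_rfl
      (fun h => by omega))
  · obtain ⟨m, hm, hnm, F, _, _, hF, ⟨e⟩⟩ := h
    exact ne_of_equiv e (AltTwelve.sz OrdDiv.table.{0} hm (by rw [hF, hnm]))
  · obtain ⟨F, _, _, m, hm, hF, ⟨e⟩⟩ := h
    exact ne_of_equiv e (AltTwelve.ree OrdDiv.table.{0} hm hF)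
  · have h1 := OrdDiv.table.{0}.spor A (.j1, 175560) (by decide) h
    rw [card_alt] at h1
    exact absurd h1 (by decide)

/-- the conclusion -/
def Concl (G : Type u) [Group G] : Prop :=
  Nonempty (G ≃* ↥(alternatingGroup (Fin 12))) ∨ Nonempty (G ≃* ↥(alternatingGroup (Fin 13))) ∨
      (∃ (F : Type) (_ : Field F) (_ : Fintype F), Fintype.card F = 2 ∧ Nonempty (G ≃* Cfsg.PSp 3 F)) ∨
      (∃ (F : Type) (_ : Field F) (_ : Fintype F), (Fintype.card F % 8 = 3 ∨ Fintype.card F % 8 = 5) ∧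
        Nonempty (G ≃* Cfsg.POmega F (Cfsg.quadFormOdd 3 F)))

/-- **The theorem.** -/
theorem main {G : Type u} [Group G] [Finite G] [IsSimpleGroup G] (hG : ¬ IsMulCommutative G) (S : Sylow 2 G)
    (hS : ∃ P : Sylow 2 A, Nonempty (↥(S : Subgroup G) ≃* ↥(P : Subgroup A))) : Concl G := by
  obtain ⟨P, ⟨f⟩⟩ := hS
  have hcard : Nat.card ↥(S : Subgroup G) = 2 ^ 9 := by
    rw [Nat.card_congr f.toEquiv, P.card_eq_multiplicity, card_alt]
    congr 1
    have h0 : NA ≠ 0 := by decide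
    apply le_antisymm
    · by_contra hlt
      have h1 := (Nat.prime_two.pow_dvd_iff_le_factorization h0 (k := 10)).2 (by omega)
      exact absurd (Nat.mod_eq_zero_of_dvd h1) (by decide)
    · exact (Nat.prime_two.pow_dvd_iff_le_factorization h0 (k := 9)).1 (Nat.dvd_of_mod_eq_zero (by decide))
  have h9 : 2 ^ 9 ∣ Nat.card G := by rw [← hcard]; exact Subgroup.card_subgroup_dvd_card _
  have h10 : ¬ 2 ^ 10 ∣ Nat.card G := by
    intro h
    have h1 := S.card_eq_multiplicity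
    rw [hcard] at h1
    have h2 := (Nat.prime_two.pow_dvd_iff_le_factorization Nat.card_pos.ne').1 h
    have h3 := Nat.pow_right_injective le_rfl h1
    omega
  -- the Sylow subgroup has an elementary abelian subgroup of order 64
  have hr : ∀ k : ℕ, k ≤ 5 → ¬ PRankLE 2 k G := by
    intro k hk h
    apply AltTwelve.rank
    rw [← Cfsg.Agent.OddOrderLocal.Rank.pRankLE_sylow P]
    exact Cfsg.Agent.NotResT.TwoRank.prank_congr f.symm
      ((Cfsg.Agent.OddOrderLocal.Rank.pRankLE_sylow S).2 (rank_mono hk h))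
  rcases TwoPart.main OrdDiv.table.{u} (S0000.result (G := G)) (LyEnd.not_all_comm hG) h10 with
    h | h | h | h | h | h | h | h | h
  · obtain ⟨n, hn, hn', ⟨e⟩⟩ := h
    rcases (TwoExact.alt8 hn hn' e ((pow_dvd_pow 2 (by norm_num)).trans h9)).2 with rfl | rfl
    · exact Or.inl ⟨e⟩
    · exact Or.inr (Or.inl ⟨e⟩)
  · exfalso
    obtain ⟨F, _, _, n, hF, hn, hn', ⟨e⟩⟩ := h
    have h1 := Cfsg.Agent.NotResT.TwoRank.prank_congr e (PglRank.psl hF (n := n) (by omega) (by omega))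
    refine hr _ ?_ h1
    obtain rfl | rfl | rfl | rfl : n = 2 ∨ n = 3 ∨ n = 4 ∨ n = 5 := by omega
    all_goals decide
  · exfalso
    obtain ⟨F, _, _, m, hF, hm, hm', ⟨e⟩⟩ := h
    have h1 := Cfsg.Agent.NotResT.TwoRank.prank_congr e (PglRank.psp hF (m := m) (by omega) (by omega))
    refine hr _ ?_ h1
    obtain rfl | rfl : m = 2 ∨ m = 3 := by omega
    all_goals decide
  · exfalso
    obtain ⟨F, _, _, n, q, hF, hq, hn, hn', ⟨e⟩⟩ := h
    have h1 := Cfsg.Agent.NotResT.TwoRank.prank_congr e (PglRank.psu hq hF (n := n) (by omega) (by omega))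
    refine hr _ ?_ h1
    obtain rfl | rfl | rfl : n = 3 ∨ n = 4 ∨ n = 5 := by omega
    all_goals decide
  · obtain ⟨F, _, _, hF, ⟨e⟩⟩ := h
    iterate 3 right
    refine ⟨F, inferInstance, inferInstance, ?_, ⟨e⟩⟩
    rw [Nat.card_congr e.toEquiv] at h10
    exact TwoExact.oodd3_mod hF (TwoPart.oodd_card le_rfl hF) h10
  · exfalso
    obtain ⟨F, _, _, hF, ⟨e⟩⟩ := h
    rw [Nat.card_congr e.toEquiv] at h9 h10
    exact h10 (TwoExact.even_g2 hF Fintype.one_lt_card (OrdDiv.table.{0}.g2 F) h9)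
  · exfalso
    obtain ⟨K, _, _, q, hq, hqp, hK, ⟨e⟩⟩ := h
    rw [Nat.card_congr e.toEquiv] at h9 h10
    exact h10 (TwoExact.even_td4 hq hqp.one_lt (OrdDiv.table.{0}.td4 K q hqp hK) h9)
  · exfalso
    obtain ⟨F, _, _, m, hm, hF, ⟨e⟩⟩ := h
    have hcc := Nat.card_congr e.toEquiv
    rw [hcc] at h9
    exact TwoExact.ree (TwoExact.ree_mod m) (by rw [OrdDiv.table.{0}.ree F m hm hF])
      ((pow_dvd_pow 2 (by norm_num)).trans h9)
  · obtain ⟨g, hg, hreal, hord⟩ := h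
    have h1 : ∀ g ∈ TwoPart.small, 2 ^ 9 ∣ ordN g →
        g = .psl 2 512 ∨ g = .psl 3 8 ∨ g = .psu 3 8 ∨ g = .psp 3 2 ∨ g = .hs ∨ g = .on := by
      rw [TwoPart.small_eq]
      decide +kernel
    rw [hord] at h9
    rcases h1 g hg h9 with rfl | rfl | rfl | rfl | rfl | rfl
    · exfalso
      obtain ⟨F, _, _, hF, ⟨e⟩⟩ := hreal
      have hfin : Finite (Matrix.ProjectiveSpecialLinearGroup (Fin 2) F) := Finite.of_equiv _ e.toEquiv
      obtain ⟨Q, ⟨e2⟩⟩ := LyEnd.transport e S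
      exact case_bender P (n := 9) (by norm_num) (Or.inl ⟨F, inferInstance, inferInstance, by rw [hF]; norm_num,
        Or.inl ⟨Q, ⟨f.symm.trans e2⟩⟩⟩)
    · exfalso
      obtain ⟨F, _, _, hF, ⟨e⟩⟩ := hreal
      have hfin : Finite (Matrix.ProjectiveSpecialLinearGroup (Fin 3) F) := Finite.of_equiv _ e.toEquiv
      obtain ⟨Q, ⟨e2⟩⟩ := LyEnd.transport e S
      exact case_bender P (n := 3) (by norm_num) (Or.inl ⟨F, inferInstance, inferInstance, by rw [hF]; norm_num,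
        Or.inr (Or.inl ⟨Q, ⟨f.symm.trans e2⟩⟩)⟩)
    · exfalso
      obtain ⟨F, _, _, hF, ⟨e⟩⟩ := hreal
      have hfin : Finite (PSU 3 F 8) := Finite.of_equiv _ e.toEquiv
      obtain ⟨Q, ⟨e2⟩⟩ := LyEnd.transport e S
      exact case_bender P (n := 3) (by norm_num) (Or.inr (Or.inl ⟨F, inferInstance, inferInstance,
        by rw [hF]; norm_num, Q, ⟨f.symm.trans e2⟩⟩))
    · obtain ⟨F, _, _, hF, ⟨e⟩⟩ := hreal
      iterate 2 right
      left
      exact ⟨F, inferInstance, inferInstance, hF, ⟨e⟩⟩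
    · exfalso
      obtain ⟨e⟩ : Cfsg.Spor.IsoHS G := hreal
      have hfin : Finite ↥Cfsg.Spor.HS := Finite.of_equiv _ e.toEquiv
      obtain ⟨Q, ⟨e2⟩⟩ := LyEnd.transport e S
      have h2 := S1777.result P Q ⟨f.symm.trans e2⟩
      have h3 := OrdDiv.table.{0}.spor A (.hs, 44352000) (by decide) h2
      rw [card_alt] at h3
      exact absurd h3 (by decide)
    · exfalso
      exact hr 3 (by norm_num) (Cfsg.Agent.SevenLow.ONan.low hreal)

end Cfsg.Agent.H285.AltEnd
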