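import Cfsg.Agent.H285.FsG

/-!
# The constrained case is impossible: end
-/

set_option autoImplicit false
set_option linter.unusedSectionVars false

open Subgroup
open scoped commutatorElement

namespace Cfsg.Agent.H285.Fs

variable {X : Type*} [Group X] [Finite X] {S V : Subgroup X}

namespace Loc

variable {Z : Subgroup X} {t : X} (h : Loc S V) (hZ : Ab h Z)
  (hself : ∀ g : X, (∀ z ∈ Z, g * z = z * g) → g ∈ Z) (ht : t ∈ S) (ht2 : t * t = 1) (htV : t ∉ V)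
  {u v y w : X} (Y : Y3 h u v y w)

theorem t_inv (ht2 : t * t = 1) (z : X) : t * ⁅t, z⁆ * t⁻¹ = ⁅t, z⁆⁻¹ := by
  have e : t * ⁅t, z⁆ * t⁻¹ = (t * t) * z * (t * t)⁻¹ * (t * z⁻¹ * t⁻¹) := by
    rw [commutatorElement_def]; group
  rw [e, ht2, inv_one, mul_one, one_mul, commutatorElement_def]
  group

include hZ ht ht2 htV

/-- elements of `W` are squares of elements of `Z` if `Z ≠ W` -/
theorem W_le_Sq (hne : ∃ z ∈ Z, z ∉ h.W) : h.W ≤ h.Sq hZ := by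
  obtain ⟨z, hz, hzW, hz2, _⟩ := exists_mid' h.isP hZ.ZS (fun s hs a ha => h.W_norm (Subgroup.le_normalizer hs) ha)
    (fun s _ a ha => hZ.n.conj_mem a ha s) hne
  refine h.W_le_of ht ht2 htV (fun x _ m hm => (h.Sq_normal hZ).conj_mem m hm x) (h.V_le_Sq hZ ht ht2 htV)
    ⟨z * z, ⟨z, hz, rfl⟩, hz2, fun e => hzW (h.mem_W_of_sq hZ ht ht2 htV hz e)⟩

include hself Y

theorem t_cent_W (hne : ∃ z ∈ Z, z ∉ h.W) {a : X} (ha : a ∈ h.W) : ⁅t, a⁆ = 1 := by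
  obtain ⟨hSn, _⟩ := h.yN hZ hself ht ht2 htV Y
  have hWS := h.W_le_Sq hZ ht ht2 htV hne
  have hyN : y ∈ normalizer (S : Set X) := by
    rw [normalizer_eq_top (H := S)]; exact mem_top y
  have hwW := Y.hw
  have hw2 : y * w * y⁻¹ ∈ h.W := h.W_norm hyN hwW
  have hw3 : y⁻¹ * w * y ∈ h.W := by
    have := h.W_norm (inv_mem hyN) hwW
    rwa [inv_inv] at this
  have hsq2 : (y * w * y⁻¹) * (y * w * y⁻¹) = v := by
    rw [← Y.yu, ← Y.ww]; group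
  have hsq3 : (y⁻¹ * w * y) * (y⁻¹ * w * y) = u * v := by
    have e : (y⁻¹ * w * y) * (y⁻¹ * w * y) = y⁻¹ * u * y := by rw [← Y.ww]; group
    rw [e, ← Y.norm Y.hu, Y.yu]
  -- for every a ∈ W there is r ∈ W with r² = [t, a] = [t, r]
  have key : ∀ a ∈ h.W, ∃ r ∈ h.W, r * r = ⁅t, a⁆ ∧ ⁅t, r⁆ = ⁅t, a⁆ := by
    intro a ha
    obtain ⟨z, hz, hza⟩ := hWS ha
    have hr : ⁅t, z⁆ ∈ Z := by
      have e : ⁅t, z⁆ = (t * z * t⁻¹) * z⁻¹ := rfl
      rw [e]; exact Z.mul_mem (hZ.n.conj_mem z hz t) (Z.inv_mem hz)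
    have h1 : ⁅t, z⁆ * ⁅t, z⁆ = ⁅t, a⁆ := by
      have e : ⁅t, z * z⁆ = ⁅t, z⁆ * (z * ⁅t, z⁆ * z⁻¹) := by simp only [commutatorElement_def]; group
      rw [← hza, e, hZ.ab z hz _ hr, mul_inv_cancel_right]
    have h2 : ⁅t, a⁆ ∈ V := ha.2.2 t ht
    have h3 := h.mem_W_of_sq hZ ht ht2 htV hr (h1 ▸ h2)
    refine ⟨⁅t, z⁆, h3, h1, ?_⟩
    have h4 := t_inv ht2 z
    have e : ⁅t, ⁅t, z⁆⁆ = (t * ⁅t, z⁆ * t⁻¹) * ⁅t, z⁆⁻¹ := rfl
    rw [e, h4, ← mul_inv_rev, h1, h.v_inv h2]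
  -- μ
  obtain ⟨s2, s3⟩ := h.semi hZ hself ht ht2 htV Y ht
  have hp : ⁅t, w⁆ ∈ V := hwW.2.2 t ht
  have sqmu : ∀ r ∈ h.W, (r * r = u → ⁅t, r⁆ = ⁅t, w⁆) ∧ (r * r = v → ⁅t, r⁆ = ⁅t, y * w * y⁻¹⁆) ∧
      (r * r = u * v → ⁅t, r⁆ = ⁅t, y⁻¹ * w * y⁆) := by
    intro r hr
    refine ⟨fun e => ?_, fun e => ?_, fun e => ?_⟩
    · exact h.cc_of_sq ht ht2 htV hr hwW ht (e.trans Y.ww.symm)
    · exact h.cc_of_sq ht ht2 htV hr hw2 ht (e.trans hsq2.symm)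
    · exact h.cc_of_sq ht ht2 htV hr hw3 ht (e.trans hsq3.symm)
  have hyiu : y⁻¹ * u * y = u * v := by rw [← Y.norm Y.hu, Y.yu]
  have hyiv : y⁻¹ * v * y = u := by rw [← Y.yu]; group
  have hyiuv : y⁻¹ * (u * v) * y = v := by rw [← Y.yv]; group
  have huvu : u * v ≠ u := by intro e; exact Y.hv1 (by simpa using e)
  have huvv : u * v ≠ v := by intro e; exact Y.hu1 (by simpa using e)
  have hp1 : ⁅t, w⁆ = 1 := by
    rcases h.v_cases Y.hu Y.hv Y.hu1 Y.hv1 Y.huv hp with h1 | h1 | h1 | h1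
    · exact h1
    · -- μ(u) = u, μ(v) = uv, μ(uv) = v
      exfalso
      rw [h1] at s2 s3
      rw [hyiu] at s2
      rw [Y.yu] at s3
      obtain ⟨r, hr, hrr, hrt⟩ := key _ hw2
      rw [s2] at hrr hrt
      have := (sqmu r hr).2.2 hrr
      rw [s3, hrt] at this
      exact huvv this
    · -- μ(u) = v, μ(v) = u
      exfalso
      rw [h1] at s2 s3
      rw [hyiv] at s2
      obtain ⟨r, hr, hrr, hrt⟩ := key _ hwW
      rw [h1] at hrr hrt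
      have := (sqmu r hr).2.1 hrr
      rw [s2, hrt] at this
      exact Y.huv this.symm
    · -- μ(u) = uv, μ(uv) = u
      exfalso
      rw [h1] at s2 s3
      rw [Y.yuv] at s3
      obtain ⟨r, hr, hrr, hrt⟩ := key _ hwW
      rw [h1] at hrr hrt
      have := (sqmu r hr).2.2 hrr
      rw [s3, hrt] at this
      exact huvu this
  rw [hp1] at s2 s3
  have s2' : ⁅t, y * w * y⁻¹⁆ = 1 := by rw [s2]; group
  have s3' : ⁅t, y⁻¹ * w * y⁆ = 1 := by rw [s3]; group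
  rcases h.v_cases Y.hu Y.hv Y.hu1 Y.hv1 Y.huv ha.2.1 with h1 | h1 | h1 | h1
  · exact cc_one.2 (h.vc (h.W_sq_one ha h1) ht)
  · rw [(sqmu a ha).1 h1, hp1]
  · rw [(sqmu a ha).2.1 h1, s2']
  · rw [(sqmu a ha).2.2 h1, s3']

theorem tZ {z : X} (hz : z ∈ Z) : ⁅t, z⁆ ∈ V := by
  by_cases hne : ∃ z ∈ Z, z ∉ h.W
  · obtain ⟨hSn, _⟩ := h.yN hZ hself ht ht2 htV Y
    have key : ∀ k : ℕ, ∀ r ∈ Z, r ^ 2 ^ k = 1 → t * r * t⁻¹ = r⁻¹ → r ∈ V := by
      intro k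
      induction k with
      | zero =>
        intro r _ hr1 _
        rw [pow_zero, pow_one] at hr1
        rw [hr1]; exact V.one_mem
      | succ k ih =>
        intro r hr hr1 hrt
        have h1 : r * r ∈ V := by
          refine ih (r * r) (Z.mul_mem hr hr) ?_ ?_
          · rw [← pow_two, ← pow_mul, ← pow_succ']; exact hr1
          · calc t * (r * r) * t⁻¹ = (t * r * t⁻¹) * (t * r * t⁻¹) := by group
              _ = (r * r)⁻¹ := by rw [hrt, mul_inv_rev]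
        have h2 := h.mem_W_of_sq hZ ht ht2 htV hr h1
        have h3 := cc_one.1 (h.t_cent_W hZ hself ht ht2 htV Y hne h2)
        rw [h3, mul_inv_cancel_right] at hrt
        refine h.W_sq_one h2 ?_
        calc r * r = r * r⁻¹ := by rw [← hrt]
          _ = 1 := mul_inv_cancel r
    have hr : ⁅t, z⁆ ∈ Z := by
      have e : ⁅t, z⁆ = (t * z * t⁻¹) * z⁻¹ := rfl
      rw [e]; exact Z.mul_mem (hZ.n.conj_mem z hz t) (Z.inv_mem hz)
    obtain ⟨k, hk⟩ := h.isP ⟨_, hZ.ZS hr⟩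
    exact key k _ hr (congrArg Subtype.val hk) (t_inv ht2 z)
  · push Not at hne
    exact (hne z hz).2.2 t ht

omit hself ht ht2 htV in
theorem y_fix {z : X} (hz : z ∈ Z) (hzy : y * z * y⁻¹ = z) : z = 1 := by
  have key : ∀ k : ℕ, ∀ r ∈ Z, r ^ 2 ^ k = 1 → y * r * y⁻¹ = r → r = 1 := by
    intro k
    induction k with
    | zero => intro r _ hr1 _; rwa [pow_zero, pow_one] at hr1
    | succ k ih =>
      intro r hr hr1 hry
      have h1 : r * r = 1 := by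
        refine ih (r * r) (Z.mul_mem hr hr) ?_ ?_
        · rw [← pow_two, ← pow_mul, ← pow_succ']; exact hr1
        · calc y * (r * r) * y⁻¹ = (y * r * y⁻¹) * (y * r * y⁻¹) := by group
            _ = r * r := by rw [hry]
      exact Y.fpf (hZ.om hr h1) hry
  obtain ⟨k, hk⟩ := h.isP ⟨z, hZ.ZS hz⟩
  exact key k z hz (congrArg Subtype.val hk) hzy

omit hself ht ht2 htV in
theorem y_norm {z : X} (hz : z ∈ Z) : z * (y * z * y⁻¹) * (y⁻¹ * z * y) = 1 := by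
  have z1 := hZ.n.conj_mem z hz y
  have z2 : y⁻¹ * z * y ∈ Z := by
    have := hZ.n.conj_mem z hz y⁻¹
    rwa [inv_inv] at this
  refine h.y_fix hZ Y (Z.mul_mem (Z.mul_mem hz z1) z2) ?_
  have hyy := Y.y3'
  have h1 : y = y⁻¹ * y⁻¹ := by
    rw [← mul_inv_rev]; exact eq_inv_of_mul_eq_one_right Y.y3
  have e : y * (z * (y * z * y⁻¹) * (y⁻¹ * z * y)) * y⁻¹ = (y * z * y⁻¹) * ((y * y) * z * (y * y)⁻¹) * z := by
    group
  have e2 : (y * y)⁻¹ = y := by rw [← hyy, inv_inv]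
  rw [e, e2, ← hyy, mul_assoc, hZ.ab _ z2 _ hz, hZ.ab _ z1 _ (Z.mul_mem hz z2), mul_assoc, hZ.ab _ z2 _ z1,
    ← mul_assoc]

/-- `[Z, S]` is contained in the squares of `Z`. -/
theorem Z_S_Sq {s z : X} (hs : s ∈ S) (hz : z ∈ Z) : ⁅s, z⁆ ∈ h.Sq hZ := by
  obtain ⟨hSn, _⟩ := h.yN hZ hself ht ht2 htV Y
  have hSqn := h.Sq_normal hZ
  have hSqle := h.Sq_le hZ
  let B : Subgroup X :=
    { carrier := {z | z ∈ Z ∧ ∀ s ∈ S, ⁅s, z⁆ ∈ h.Sq hZ}
      one_mem' := ⟨Z.one_mem, fun s _ => by rw [commutatorElement_one_right]; exact (h.Sq hZ).one_mem⟩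
      mul_mem' := by
        rintro a b ⟨ha, ha1⟩ ⟨hb, hb1⟩
        refine ⟨Z.mul_mem ha hb, fun s hs => ?_⟩
        have e : ⁅s, a * b⁆ = ⁅s, a⁆ * (a * ⁅s, b⁆ * a⁻¹) := by simp only [commutatorElement_def]; group
        rw [e]; exact (h.Sq hZ).mul_mem (ha1 s hs) (hSqn.conj_mem _ (hb1 s hs) a)
      inv_mem' := by
        rintro a ⟨ha, ha1⟩
        refine ⟨Z.inv_mem ha, fun s hs => ?_⟩
        have e : ⁅s, a⁻¹⁆ = a⁻¹ * (⁅s, a⁆)⁻¹ * a⁻¹⁻¹ := by simp only [commutatorElement_def]; group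
        rw [e]; exact hSqn.conj_mem _ ((h.Sq hZ).inv_mem (ha1 s hs)) _ }
  have hBn : B.Normal := by
    refine ⟨?_⟩
    rintro a ⟨ha, ha1⟩ g
    refine ⟨hZ.n.conj_mem a ha g, fun s hs => ?_⟩
    have e : ⁅s, g * a * g⁻¹⁆ = g * ⁅g⁻¹ * s * g⁻¹⁻¹, a⁆ * g⁻¹ := by simp only [commutatorElement_def]; group
    rw [e]; exact hSqn.conj_mem _ (ha1 _ (hSn.conj_mem s hs g⁻¹)) g
  have hBZ : B ≤ Z := fun a ha => ha.1
  -- Z ≠ Sq
  have hZSq : ∃ z ∈ Z, z ∉ h.Sq hZ := by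
    by_contra hcon
    push Not at hcon
    have h1 : Z ≤ h.Sq hZ := hcon
    -- the square map of Z is then injective
    have hfin : Function.Surjective (fun z : Z => (⟨(z : X) * z, Z.mul_mem z.2 z.2⟩ : Z)) := by
      intro z
      obtain ⟨a, ha, haz⟩ := h1 z.2
      exact ⟨⟨a, ha⟩, Subtype.ext haz⟩
    have hinj := Finite.injective_iff_surjective.2 hfin
    have := @hinj ⟨u, hZ.VZ Y.hu⟩ 1 (Subtype.ext (by
      show u * u = 1 * 1
      rw [h.v2 u Y.hu, one_mul]))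
    exact Y.hu1 (congrArg Subtype.val this)
  obtain ⟨z0, hz0, hz0Sq, _, hz0c⟩ := exists_mid' h.isP hZ.ZS (fun s _ a ha => hSqn.conj_mem a ha s)
    (fun s _ a ha => hZ.n.conj_mem a ha s) hZSq
  have hz0B : z0 ∈ B := ⟨hz0, hz0c⟩
  have hz1B : y * z0 * y⁻¹ ∈ B := hBn.conj_mem _ hz0B y
  have hz00 : z0 * z0 ∈ h.Sq hZ := ⟨z0, hz0, rfl⟩
  have hz1 : z0⁻¹ * (y * z0 * y⁻¹) ∉ h.Sq hZ := by
    intro hcon
    apply hz0Sq
    -- z0³ ∈ Sq
    have c1 := hSqn.conj_mem _ hcon y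
    have c2 := hSqn.conj_mem _ hcon y⁻¹
    have e1 : y * (z0⁻¹ * (y * z0 * y⁻¹)) * y⁻¹ = (y * z0 * y⁻¹)⁻¹ * ((y * y) * z0 * (y * y)⁻¹) := by group
    have e2 : (y * y) * z0 * (y * y)⁻¹ = y⁻¹ * z0 * y := by rw [← Y.y3', inv_inv]
    rw [e1, e2] at c1
    have hn := h.y_norm hZ Y hz0
    have zy := hZ.n.conj_mem z0 hz0 y
    have zyi : y⁻¹ * z0 * y ∈ Z := by
      have := hZ.n.conj_mem z0 hz0 y⁻¹
      rwa [inv_inv] at this
    generalize hA : y * z0 * y⁻¹ = A at *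
    generalize hBB : y⁻¹ * z0 * y = B' at *
    -- hcon : z0⁻¹ A ∈ Sq, c1 : A⁻¹ B' ∈ Sq, hn : z0 A B' = 1
    have h3 : (z0⁻¹ * A) * (z0⁻¹ * A) * (A⁻¹ * B') ∈ h.Sq hZ :=
      (h.Sq hZ).mul_mem ((h.Sq hZ).mul_mem hcon hcon) c1
    have h4 : (z0⁻¹ * A) * (z0⁻¹ * A) * (A⁻¹ * B') = z0⁻¹ * z0⁻¹ * z0⁻¹ := by
      have q1 := hZ.ab A zy z0⁻¹ (Z.inv_mem hz0)
      calc (z0⁻¹ * A) * (z0⁻¹ * A) * (A⁻¹ * B') = z0⁻¹ * (A * z0⁻¹) * B' := by group
        _ = z0⁻¹ * (z0⁻¹ * A) * B' := by rw [q1]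
        _ = z0⁻¹ * z0⁻¹ * z0⁻¹ * (z0 * A * B') := by group
        _ = z0⁻¹ * z0⁻¹ * z0⁻¹ := by rw [hn, mul_one]
    rw [h4] at h3
    have h5 := (h.Sq hZ).mul_mem hz00 h3
    have h6 : z0 * z0 * (z0⁻¹ * z0⁻¹ * z0⁻¹) = z0⁻¹ := by group
    rw [h6] at h5
    exact (h.Sq hZ).inv_mem_iff.1 h5
  let A1 : Subgroup X :=
    { carrier := {z | z ∈ h.Sq hZ ∨ z0⁻¹ * z ∈ h.Sq hZ}
      one_mem' := Or.inl (h.Sq hZ).one_mem
      mul_mem' := by
        have hle : ∀ z, z ∈ h.Sq hZ ∨ z0⁻¹ * z ∈ h.Sq hZ → z ∈ Z := by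
          rintro z (hz | hz)
          · exact hSqle hz
          · have := Z.mul_mem hz0 (hSqle hz)
            rwa [mul_inv_cancel_left] at this
        rintro a b (ha | ha) (hb | hb)
        · exact Or.inl ((h.Sq hZ).mul_mem ha hb)
        · refine Or.inr ?_
          have h1 := hZ.ab _ (hSqle ha) _ (hle b (Or.inr hb))
          rw [h1, ← mul_assoc]
          exact (h.Sq hZ).mul_mem hb ha
        · refine Or.inr ?_
          rw [← mul_assoc]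
          exact (h.Sq hZ).mul_mem ha hb
        · refine Or.inl ?_
          have h1 := hZ.ab _ (hle a (Or.inr ha)) _ (Z.inv_mem hz0)
          have e : a * b = (z0 * z0) * ((z0⁻¹ * a) * (z0⁻¹ * b)) := by
            calc a * b = z0 * (z0⁻¹ * a) * z0 * (z0⁻¹ * b) := by group
              _ = z0 * ((z0⁻¹ * a) * z0) * (z0⁻¹ * b) := by group
              _ = z0 * (z0 * (z0⁻¹ * a)) * (z0⁻¹ * b) := by rw [hZ.ab _ (hSqle ha) _ hz0]
              _ = _ := by group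
          rw [e]
          exact (h.Sq hZ).mul_mem hz00 ((h.Sq hZ).mul_mem ha hb)
      inv_mem' := by
        rintro a (ha | ha)
        · exact Or.inl ((h.Sq hZ).inv_mem ha)
        · refine Or.inr ?_
          have e : z0⁻¹ * a⁻¹ = (z0 * z0)⁻¹ * (z0 * (z0⁻¹ * a)⁻¹ * z0⁻¹) := by group
          rw [e]
          exact (h.Sq hZ).mul_mem ((h.Sq hZ).inv_mem hz00) (hSqn.conj_mem _ ((h.Sq hZ).inv_mem ha) z0) }
  have hSqB : h.Sq hZ ≤ B := fun a ha => ⟨hSqle ha, fun s _ => by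
    have e : ⁅s, a⁆ = (s * a * s⁻¹) * a⁻¹ := rfl
    rw [e]; exact (h.Sq hZ).mul_mem (hSqn.conj_mem a ha s) ((h.Sq hZ).inv_mem ha)⟩
  have c1 := two_mul_card_le (A := h.Sq hZ) (B := A1) (fun a ha => Or.inl ha) (by
    intro e
    exact hz0Sq (e ▸ (Or.inr (by show z0⁻¹ * z0 ∈ _; rw [inv_mul_cancel]; exact (h.Sq hZ).one_mem) : z0 ∈ A1)))
  have c2 := two_mul_card_le (A := A1) (B := B) (by
    rintro a (ha | ha)
    · exact hSqB ha
    · have := B.mul_mem hz0B (hSqB ha)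
      rwa [mul_inv_cancel_left] at this) (by
    intro e
    rw [← e] at hz1B
    rcases hz1B with h1 | h1
    · have h2 := hSqn.conj_mem _ h1 y⁻¹
      have e3 : y⁻¹ * (y * z0 * y⁻¹) * y⁻¹⁻¹ = z0 := by group
      rw [e3] at h2
      exact hz0Sq h2
    · exact hz1 h1)
  have c3 := h.card_Z_le hZ
  have hBe : B = Z := Subgroup.eq_of_le_of_card_ge hBZ (by omega)
  rw [← hBe] at hz
  exact hz.2 s hs

/-- `[S, t] ≤ Z`. -/
theorem S_t {s : X} (hs : s ∈ S) : ⁅s, t⁆ ∈ Z := by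
  refine hself _ (fun z hz => ?_)
  rw [← cc_one]
  have hsi : s⁻¹ * z * s ∈ Z := by
    have := hZ.n.conj_mem z hz s⁻¹
    rwa [inv_inv] at this
  have htV' : ∀ z ∈ Z, ⁅t, z⁆ ∈ V := fun z hz => h.tZ hZ hself ht ht2 htV Y hz
  -- [s t s⁻¹, z] = [t, z]
  have h1 : ⁅s * t * s⁻¹, z⁆ = ⁅t, z⁆ := by
    have e : ⁅s * t * s⁻¹, z⁆ = s * ⁅t, s⁻¹ * z * s⁆ * s⁻¹ := by simp only [commutatorElement_def]; group
    rw [e, h.vc (htV' _ hsi) hs, mul_inv_cancel_right]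
    -- s⁻¹ z s = z · (square)
    have h2 := h.Z_S_Sq hZ hself ht ht2 htV Y (S.inv_mem hs) hz
    obtain ⟨a, ha, haz⟩ := h2
    have h3 : s⁻¹ * z * s = (a * a) * z := by rw [haz, commutatorElement_def]; group
    have h4 : ⁅t, a * a⁆ = 1 := by
      rw [h.cc_right (hZ.ZS ha) (htV' a ha), h.v2 _ (htV' a ha)]
    rw [h3, h.cc_right (hZ.ZS (Z.mul_mem ha ha)) (htV' z hz), h4, one_mul]
  have hti : t⁻¹ = t := inv_eq_of_mul_eq_one_left ht2
  have e : ⁅s, t⁆ = (s * t * s⁻¹) * t := by rw [commutatorElement_def, hti]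
  have hsts : s * t * s⁻¹ ∈ S := S.mul_mem (S.mul_mem hs ht) (S.inv_mem hs)
  rw [e, h.cc_left hsts (htV' z hz), h1, h.v2 _ (htV' z hz)]

/-- The constrained case is impossible. -/
theorem contra : False := by
  obtain ⟨hSn, _⟩ := h.yN hZ hself ht ht2 htV Y
  have hti : t⁻¹ = t := inv_eq_of_mul_eq_one_left ht2
  -- c = [s, t] is in W
  have hcW : ∀ s ∈ S, ⁅s, t⁆ ∈ h.W ∧ t * ⁅s, t⁆ * t⁻¹ = ⁅s, t⁆⁻¹ := by
    intro s hs
    have hc := h.S_t hZ hself ht ht2 htV Y hs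
    have e : s * t * s⁻¹ = ⁅s, t⁆ * t := by rw [commutatorElement_def]; group
    have h1 : (⁅s, t⁆ * t) * (⁅s, t⁆ * t) = 1 := by
      rw [← e]
      calc s * t * s⁻¹ * (s * t * s⁻¹) = s * (t * t) * s⁻¹ := by group
        _ = 1 := by rw [ht2]; group
    have h2 : t * ⁅s, t⁆ * t⁻¹ = ⁅s, t⁆⁻¹ := by
      rw [hti]
      refine (inv_eq_of_mul_eq_one_right ?_).symm
      rw [← h1]; group
    refine ⟨?_, h2⟩
    have h3 := h.tZ hZ hself ht ht2 htV Y hc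
    have e2 : ⁅t, ⁅s, t⁆⁆ = (t * ⁅s, t⁆ * t⁻¹) * ⁅s, t⁆⁻¹ := rfl
    rw [e2, h2, ← mul_inv_rev] at h3
    exact h.mem_W_of_sq hZ ht ht2 htV hc (V.inv_mem_iff.1 h3)
  refine htV (h.kill ht ht2 (fun s hs => ?_))
  by_cases hne : ∃ z ∈ Z, z ∉ h.W
  · obtain ⟨h1, h2⟩ := hcW s hs
    have h3 := cc_one.1 (h.t_cent_W hZ hself ht ht2 htV Y hne h1)
    rw [h3, mul_inv_cancel_right] at h2
    refine h.W_sq_one h1 ?_
    have : ⁅s, t⁆ * ⁅s, t⁆ = 1 := by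
      calc ⁅s, t⁆ * ⁅s, t⁆ = ⁅s, t⁆ * ⁅s, t⁆⁻¹ := by rw [← h2]
        _ = 1 := mul_inv_cancel _
    exact this
  · push Not at hne
    -- Z = W
    have hyN : y ∈ normalizer (S : Set X) := by
      rw [normalizer_eq_top (H := S)]; exact mem_top y
    have hwW := Y.hw
    have hw2 : y * w * y⁻¹ ∈ h.W := h.W_norm hyN hwW
    have hw3 : y⁻¹ * w * y ∈ h.W := by
      have := h.W_norm (inv_mem hyN) hwW
      rwa [inv_inv] at this
    have hsq2 : (y * w * y⁻¹) * (y * w * y⁻¹) = v := by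
      rw [← Y.yu, ← Y.ww]; group
    have hsq3 : (y⁻¹ * w * y) * (y⁻¹ * w * y) = u * v := by
      have e : (y⁻¹ * w * y) * (y⁻¹ * w * y) = y⁻¹ * u * y := by rw [← Y.ww]; group
      rw [e, ← Y.norm Y.hu, Y.yu]
    have hsemi : ∀ c ∈ S, ⁅c, y * w * y⁻¹⁆ = y⁻¹ * ⁅c, w⁆ * y ∧ ⁅c, y⁻¹ * w * y⁆ = y * ⁅c, w⁆ * y⁻¹ :=
      fun c hc => h.semi hZ hself ht ht2 htV Y hc
    have hpV : ∀ c ∈ S, ⁅c, w⁆ ∈ V := fun c hc => hwW.2.2 c hc
    -- the kernel of p is W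
    have hker : ∀ c ∈ S, ⁅c, w⁆ = 1 → c ∈ h.W := by
      intro c hc hcw
      obtain ⟨s2, s3⟩ := hsemi c hc
      rw [hcw] at s2 s3
      have s2' : ⁅c, y * w * y⁻¹⁆ = 1 := by rw [s2]; group
      have s3' : ⁅c, y⁻¹ * w * y⁆ = 1 := by rw [s3]; group
      refine hne c (hself c (fun z hz => ?_))
      have hzW := hne z hz
      rw [← cc_one]
      rcases h.v_cases Y.hu Y.hv Y.hu1 Y.hv1 Y.huv hzW.2.1 with h1 | h1 | h1 | h1
      · exact cc_one.2 (h.vc (h.W_sq_one hzW h1) hc)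
      · rw [h.cc_of_sq ht ht2 htV hzW hwW hc (h1.trans Y.ww.symm), hcw]
      · rw [h.cc_of_sq ht ht2 htV hzW hw2 hc (h1.trans hsq2.symm), s2']
      · rw [h.cc_of_sq ht ht2 htV hzW hw3 hc (h1.trans hsq3.symm), s3']
    have hpmul : ∀ a ∈ S, ∀ b ∈ S, ⁅a * b, w⁆ = ⁅a, w⁆ * ⁅b, w⁆ := by
      intro a ha b hb
      rw [h.cc_left ha (hpV b hb), h.v_comm (hpV b hb) (hpV a ha)]
    have hpinv : ∀ a ∈ S, ⁅a⁻¹, w⁆ = ⁅a, w⁆ := by
      intro a ha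
      have h1 := hpmul a ha a⁻¹ (S.inv_mem ha)
      rw [mul_inv_cancel, commutatorElement_one_left] at h1
      have h2 := (inv_eq_of_mul_eq_one_right h1.symm).symm
      rw [h2, h.v_inv (hpV a ha)]
    have hsame : ∀ a ∈ S, ∀ b ∈ S, ⁅a, w⁆ = ⁅b, w⁆ → a⁻¹ * b ∈ h.W := by
      intro a ha b hb hab
      refine hker _ (S.mul_mem (S.inv_mem ha) hb) ?_
      rw [hpmul _ (S.inv_mem ha) _ hb, hpinv a ha, hab, h.v2 _ (hpV b hb)]
    have htp : ⁅t, w⁆ ≠ 1 := by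
      intro e
      exact htV (h.W_sq_one (hker t ht e) ht2)
    -- the conjugates of t
    have ht' : y * t * y⁻¹ ∈ S := hSn.conj_mem t ht y
    have ht'' : y⁻¹ * t * y ∈ S := by
      have := hSn.conj_mem t ht y⁻¹
      rwa [inv_inv] at this
    have hyy := Y.y3'
    have hyy' : y = y⁻¹ * y⁻¹ := by
      rw [← mul_inv_rev]; exact eq_inv_of_mul_eq_one_right Y.y3
    obtain ⟨st2, st3⟩ := hsemi t ht
    have hVc1 : ∀ z ∈ V, y * z * y⁻¹ ∈ V := fun z hz => h.vn.conj_mem z hz y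
    have hVc2 : ∀ z ∈ V, y⁻¹ * z * y ∈ V := fun z hz => by
      have := h.vn.conj_mem z hz y⁻¹
      rwa [inv_inv] at this
    have hy2 : ∀ z : X, y * (y * z * y⁻¹) * y⁻¹ = y⁻¹ * z * y := by
      intro z
      calc y * (y * z * y⁻¹) * y⁻¹ = (y * y) * z * (y⁻¹ * y⁻¹) := by group
        _ = y⁻¹ * z * y := by rw [← hyy', ← hyy]
    have hyi2 : ∀ z : X, y⁻¹ * (y⁻¹ * z * y) * y = y * z * y⁻¹ := by
      intro z
      calc y⁻¹ * (y⁻¹ * z * y) * y = (y⁻¹ * y⁻¹) * z * (y * y) := by group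
        _ = y * z * y⁻¹ := by rw [← hyy', ← hyy]
    have hpt' : ⁅y * t * y⁻¹, w⁆ = y⁻¹ * ⁅t, w⁆ * y := by
      have e : ⁅y * t * y⁻¹, w⁆ = y * ⁅t, y⁻¹ * w * y⁆ * y⁻¹ := by simp only [commutatorElement_def]; group
      rw [e, st3, hy2]
    have hpt'' : ⁅y⁻¹ * t * y, w⁆ = y * ⁅t, w⁆ * y⁻¹ := by
      have e : ⁅y⁻¹ * t * y, w⁆ = y⁻¹ * ⁅t, y * w * y⁻¹⁆ * y := by simp only [commutatorElement_def]; group
      rw [e, st2, hyi2]
    -- t'' ∈ t t' W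
    have hnorm := Y.norm (hpV t ht)
    have h3 : (t * (y * t * y⁻¹))⁻¹ * (y⁻¹ * t * y) ∈ h.W := by
      refine hsame _ (S.mul_mem ht ht') _ ht'' ?_
      rw [hpmul t ht _ ht', hpt', hpt'', ← hnorm, ← mul_assoc, h.v2 _ (hpV t ht), one_mul]
    -- e = [t, t']
    have heW := (hcW _ ht').1
    have hcomm : ∀ a ∈ h.W, ∀ s ∈ S, ⁅a, s⁆ ∈ V := by
      intro a ha s hs
      exact h.cc_symm_mem (ha.2.2 s hs)
    set e := ⁅y * t * y⁻¹, t⁆ with he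
    -- [t'', t'] = y e y⁻¹
    have hcon1 : ⁅y⁻¹ * t * y, y * t * y⁻¹⁆ = y * e * y⁻¹ := by
      rw [he, ← hy2 t]; simp only [commutatorElement_def]; group
    have hcon2 : ∃ z ∈ V, ⁅y⁻¹ * t * y, y * t * y⁻¹⁆ = z * e⁻¹ := by
      set x := (t * (y * t * y⁻¹))⁻¹ * (y⁻¹ * t * y) with hx
      have e1 : y⁻¹ * t * y = t * ((y * t * y⁻¹) * x) := by rw [hx]; group
      have e2 : ⁅y⁻¹ * t * y, y * t * y⁻¹⁆ = (t * ((y * t * y⁻¹) * ⁅x, y * t * y⁻¹⁆ * (y * t * y⁻¹)⁻¹) * t⁻¹) * e⁻¹ := by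
        rw [e1, he]; simp only [commutatorElement_def]; group
      exact ⟨_, h.vn.conj_mem _ (h.vn.conj_mem _ (hcomm _ h3 _ ht') _) _, e2⟩
    have heV : e ∈ V := by
      obtain ⟨z, hz, hze⟩ := hcon2
      rw [hcon1] at hze
      have heV2 : e * e ∈ V := heW.2.1
      have h4 : y * (e * e) * y⁻¹ = e * e := by
        have h5 := h.vc hz (S.inv_mem (h.W_le heW))
        calc y * (e * e) * y⁻¹ = (y * e * y⁻¹) * (y * e * y⁻¹) := by group
          _ = (z * e⁻¹) * (z * e⁻¹) := by rw [hze]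
          _ = z * (e⁻¹ * z) * e⁻¹ := by group
          _ = z * (z * e⁻¹) * e⁻¹ := by rw [h5]
          _ = (z * z) * (e * e)⁻¹ := by group
          _ = e * e := by rw [h.v2 z hz, one_mul, h.v_inv heV2]
      exact h.W_sq_one heW (Y.fpf heV2 h4)
    -- [s, t] ∈ V for all s
    have hWt : ∀ a ∈ h.W, ⁅a, t⁆ ∈ V := fun a ha => hcomm a ha t ht
    have hcos : ∀ b ∈ S, ⁅b, t⁆ ∈ V → b⁻¹ * s ∈ h.W → ⁅s, t⁆ ∈ V := by
      intro b hb hbt hbs
      have e1 : ⁅s, t⁆ = (b * ⁅b⁻¹ * s, t⁆ * b⁻¹) * ⁅b, t⁆ := by simp only [commutatorElement_def]; group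
      rw [e1]
      exact V.mul_mem (h.vn.conj_mem _ (hWt _ hbs) b) hbt
    have hgoal : ⁅s, t⁆ ∈ V := by
      rcases h.v_cases (hpV t ht) (hVc2 _ (hpV t ht)) htp (by
          intro e1
          apply htp
          have := congrArg (fun z => y * z * y⁻¹) e1
          simpa [mul_assoc] using this) (by
          intro e1
          apply htp
          refine Y.fpf (hpV t ht) ?_
          have := congrArg (fun z => y * z * y⁻¹) e1
          simpa [mul_assoc] using this) (hpV s hs) with h1 | h1 | h1 | h1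
      · exact hcos 1 S.one_mem (by rw [commutatorElement_one_left]; exact V.one_mem)
          (by rw [inv_one, one_mul]; exact hker s hs h1)
      · exact hcos t ht (by rw [commutatorElement_self]; exact V.one_mem) (hsame t ht s hs h1.symm)
      · exact hcos _ ht' heV (hsame _ ht' s hs (by rw [hpt', h1]))
      · refine hcos _ ht'' ?_ (hsame _ ht'' s hs ?_)
        · -- [t'', t] = y⁻¹ [t, y t y⁻¹] y
          have e1 : ⁅y⁻¹ * t * y, t⁆ = y⁻¹ * e⁻¹ * y := by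
            rw [he]; simp only [commutatorElement_def]; group
          rw [e1]
          exact hVc2 _ (V.inv_mem heV)
        · rw [hpt'', h1, ← hnorm, ← mul_assoc, h.v2 _ (hpV t ht), one_mul]
    exact hgoal

end Loc

end Cfsg.Agent.H285.Fs
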