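import Cfsg.Agent.H285.FsO
import Cfsg.Agent.GH.AltOut
import Cfsg.Agent.H931.OutSp4
import Cfsg.Agent.H680.OutOdd
import Cfsg.Agent.S1738
import Cfsg.Agent.S2060
import Cfsg.Agent.S2061
import Cfsg.Agent.S2062
import Cfsg.Agent.S2063
import Cfsg.Agent.S2065
import Cfsg.Agent.S2066
import Cfsg.Agent.S2067
import Cfsg.Agent.S2073
import Cfsg.Agent.S2076
import Cfsg.Agent.S2119
import Cfsg.Agent.S2126
import Cfsg.Agent.S2127
import Cfsg.Agent.S2601
import Cfsg.Agent.S2602
import Cfsg.Agent.S2603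

/-!
# `OKOut` for the simple groups of sectional 2-rank at most 4 (helper285)
-/

set_option autoImplicit false

open Cfsg Subgroup

namespace Cfsg.Agent.H285.Fs

open Cfsg.Agent.GH.Defs

universe u

/-- the prime power form of the order of a finite field -/
theorem card_field (F : Type) [Field F] [Fintype F] : ∃ (p f : ℕ) (_ : Fact p.Prime), 1 ≤ f ∧ Fintype.card F = p ^ f := by
  obtain ⟨p, hp⟩ := CharP.exists F
  obtain ⟨n, hn, hc⟩ := FiniteField.card F p
  exact ⟨p, n, ⟨hn⟩, n.2, hc⟩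

theorem okOut_psl {n : ℕ} (hn : 3 ≤ n) (F : Type) [Field F] [Fintype F] :
    OKOut (Matrix.ProjectiveSpecialLinearGroup (Fin n) F) := by
  obtain ⟨p, f, _, hf, hF⟩ := card_field F
  obtain ⟨φ, -, hc, -⟩ := S2601.result (F := F) hf hF hn
  exact okOut_of_hom φ hc

theorem okOut_psl_two (F : Type) [Field F] [Fintype F] (h4 : 4 ≤ Fintype.card F) :
    OKOut (Matrix.ProjectiveSpecialLinearGroup (Fin 2) F) := by
  obtain ⟨p, f, _, hf, hF⟩ := card_field F
  obtain ⟨φ, -, hc, -⟩ := S2602.result (F := F) hf hF (by rw [← hF]; exact h4)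
  exact okOut_of_hom φ hc

theorem okOut_psu {n : ℕ} (hn : 3 ≤ n) (F : Type) [Field F] [Fintype F] {q : ℕ} (hq : Fintype.card F = q ^ 2)
    (h3 : ¬ (n = 3 ∧ q = 2)) : OKOut (Cfsg.PSU n F q) := by
  obtain ⟨p, f, hp, hf, hF⟩ := card_field F
  obtain ⟨k, hk⟩ : ∃ k, q = p ^ k := by
    have h1 : q ∣ p ^ f := by rw [← hF, hq]; exact Dvd.intro_left (q ^ 1) (by ring)
    obtain ⟨k, -, hk⟩ := (Nat.dvd_prime_pow hp.out).1 h1
    exact ⟨k, hk⟩
  have hk1 : 1 ≤ k := by
    rcases Nat.eq_zero_or_pos k with h | h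
    · rw [h, pow_zero] at hk
      rw [hk, one_pow] at hq
      have := Fintype.one_lt_card (α := F)
      omega
    · exact h
  obtain ⟨φ, -, hc, -⟩ := S2603.result (K := F) hk1 hk hq hn h3
  exact okOut_of_hom φ hc

theorem okOut_alt {n : ℕ} (hn : 7 ≤ n) : OKOut ↥(alternatingGroup (Fin n)) := by
  refine okOut_of_card ?_
  have h1 := S2119.result n (by omega) (by omega)
  have : Nontrivial (Fin n) := Fin.nontrivial_iff_two_le.2 (by omega)
  rw [show Nat.card (Cfsg.Out ↥(alternatingGroup (Fin n))) = (Cfsg.Inn ↥(alternatingGroup (Fin n))).index from rfl]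
  have h2 : ((Cfsg.Inn ↥(alternatingGroup (Fin n))).comap
      (MulAut.conjNormal : Equiv.Perm (Fin n) →* MulAut ↥(alternatingGroup (Fin n)))).index =
      (Cfsg.Inn ↥(alternatingGroup (Fin n))).index := index_comap_of_surjective _ h1.surjective
  rw [← h2]
  have h3 : alternatingGroup (Fin n) ≤ (Cfsg.Inn ↥(alternatingGroup (Fin n))).comap
      (MulAut.conjNormal : Equiv.Perm (Fin n) →* MulAut ↥(alternatingGroup (Fin n))) := by
    intro a ha
    refine ⟨⟨a, ha⟩, ?_⟩
    ext x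
    rfl
  have h4 : (alternatingGroup (Fin n)).index = 2 := alternatingGroup.index_eq_two
  rw [← h4]
  exact Nat.le_of_dvd (by rw [h4]; norm_num) (index_dvd_of_le h3)

/-- `McL` and `Ly` -/
theorem mcl_or_ly {K : Type u} [Group K] [Finite K] [IsSimpleGroup K] (hna : ¬ IsMulCommutative K)
    (heven : 2 ∣ Nat.card K) (h : HasAltCover K) : Spor.IsoMcL K ∨ Spor.IsoLy K := by
  have hO : oddCore K = ⊥ := by
    have h1 : (oddCore K).Normal := Cfsg.Agent.Lib.Cores.pPrimeCore_normal 2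
    rcases h1.eq_bot_or_eq_top with h2 | h2
    · exact h2
    · exfalso
      have h3 := oddCore_odd K
      rw [h2, Subgroup.card_top, ← Nat.not_even_iff_odd, even_iff_two_dvd] at h3
      exact h3 heven
  exact GH.AltOut.mcl_or_ly hna hO (fun h1 h2 t ht K' hK' htK n hn hd =>
    S1738.result h1 h2 t ht K' hK' htK n hn hd) h

/-- **All simple groups of sectional 2-rank at most 4.** -/
theorem okOut_of_k4 {K : Type u} [Group K] [Finite K] [IsSimpleGroup K] (hna : ¬ IsMulCommutative K)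
    (heven : 2 ∣ Nat.card K) (hK : K4 K) : OKOut K := by
  have c2 : ∀ {L : Type} [Group L] [Finite L], K ≃* L → Nat.card (Cfsg.Out L) ≤ 2 → OKOut K :=
    fun e h => (okOut_of_card h).congr e
  rcases hK with h | h | h | h | h | h | h | h | h | h | h | h | h | h | h | h | h | h
  · rcases h with h | h | h | h | h | h
    · obtain ⟨F, _, _, -, h5, ⟨e⟩⟩ := h
      exact (okOut_psl_two F (by omega)).congr e
    · obtain ⟨F, _, _, -, ⟨e⟩⟩ := h
      exact (okOut_psl le_rfl F).congr e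
    · obtain ⟨F, _, _, q, hF, hq, ⟨e⟩⟩ := h
      exact (okOut_psu le_rfl F hF (by
        rintro ⟨-, rfl⟩
        exact absurd hq (by decide))).congr e
    · obtain ⟨F, _, _, hF, ⟨e⟩⟩ := h
      exact (okOut_psu le_rfl F (q := 4) (by rw [hF]; norm_num) (by norm_num)).congr e
    · obtain ⟨e⟩ := h
      exact (okOut_alt (n := 7) le_rfl).congr e
    · obtain ⟨e⟩ := h
      have : Finite ↥Spor.M11 := Finite.of_equiv K e.toEquiv
      exact c2 e (by rw [S2060.result]; norm_num)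
  · rcases h with h | h | h | h
    · obtain ⟨F, _, _, hF, ⟨e⟩⟩ := h
      exact (okOut_psl_two F (by omega)).congr e
    · obtain ⟨F, _, _, hF, ⟨e⟩⟩ := h
      have : Finite ↥(Lie.Sz F 4) := Finite.of_equiv K e.toEquiv
      refine (okOut_of_odd ?_).congr e
      have h1 := S2126.result (F := F) (m := 1) le_rfl (by rw [hF]; norm_num)
      rw [show (2 : ℕ) ^ (1 + 1) = 4 by norm_num] at h1
      rw [h1]
      decide
    · obtain ⟨F, _, _, m, hm, hF, ⟨e⟩⟩ := h
      have : Finite ↥(Lie.twistedG2 F (3 ^ m)) := Finite.of_equiv K e.toEquiv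
      refine (okOut_of_odd ?_).congr e
      rw [S2127.result (K := F) hm hF]
      exact ⟨m, rfl⟩
    · obtain ⟨e⟩ := h
      have : Finite ↥Spor.J1 := Finite.of_equiv K e.toEquiv
      exact c2 e (by rw [S2065.result]; norm_num)
  · obtain ⟨F, _, _, hF, ⟨e⟩⟩ := h
    exact (okOut_psl_two F (by omega)).congr e
  · obtain ⟨F, _, _, hF, ⟨e⟩⟩ := h
    exact (okOut_psl le_rfl F).congr e
  · obtain ⟨n, hn, -, ⟨e⟩⟩ := h
    exact (okOut_alt (n := n) (by omega)).congr e
  · obtain ⟨F, _, _, hF, ⟨e⟩⟩ := h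
    exact OKOut.congr e (fun H hH => H931.OutSp4.out_Sp4 hF H hH)
  · obtain ⟨F, _, _, -, -, ⟨e⟩⟩ := h
    exact (okOut_psl (by norm_num) F).congr e
  · obtain ⟨F, _, _, q, hF, -, -, ⟨e⟩⟩ := h
    exact (okOut_psu (by norm_num) F hF (by norm_num)).congr e
  · obtain ⟨F, _, _, -, ⟨e⟩⟩ := h
    exact (okOut_psl (by norm_num) F).congr e
  · obtain ⟨F, _, _, q, hF, -, ⟨e⟩⟩ := h
    exact (okOut_psu (by norm_num) F hF (by norm_num)).congr e
  · obtain ⟨⟨F, _, _, hF, ⟨e⟩⟩, -⟩ := h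
    exact OKOut.congr e (fun H hH => H680.OutOdd.out_G2 hF H hH)
  · obtain ⟨⟨F, _, _, q, hq, hF, ⟨e⟩⟩, -⟩ := h
    exact OKOut.congr e (fun H hH => H680.OutOdd.out_D4 hq hF H hH)
  · obtain ⟨e⟩ := h
    have : Finite ↥Spor.M12 := Finite.of_equiv K e.toEquiv
    exact c2 e (by rw [S2061.result])
  · obtain ⟨e⟩ := h
    have : Finite ↥Spor.M22 := Finite.of_equiv K e.toEquiv
    exact c2 e (by rw [S2062.result])
  · obtain ⟨e⟩ := h
    have : Finite ↥Spor.M23 := Finite.of_equiv K e.toEquiv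
    exact c2 e (by rw [S2063.result]; norm_num)
  · obtain ⟨e⟩ := h
    have : Finite Spor.J2 := Finite.of_equiv K e.toEquiv
    exact c2 e (by rw [S2066.result])
  · obtain ⟨F, _, _, ω, hF, hω, ⟨e⟩⟩ := h
    have : Finite (Spor.J3 F ω) := Finite.of_equiv K e.toEquiv
    exact c2 e (by rw [S2067.result hF ω hω])
  · rcases mcl_or_ly hna heven h with ⟨⟨e⟩⟩ | ⟨⟨e⟩⟩
    · have : Finite ↥Spor.McL := Finite.of_equiv K e.toEquiv
      exact c2 e (by rw [S2073.result])
    · have : Finite Spor.Ly := Finite.of_equiv K e.toEquiv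
      exact c2 e (by rw [S2076.result]; norm_num)

end Cfsg.Agent.H285.Fs
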