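import Cfsg.Agent.H285.FsP
import Cfsg.Agent.GH.EFrameTops
import Cfsg.Agent.NotResT.SmallTwo
import Cfsg.Agent.RankThree.FilterSpor
import Cfsg.Agent.Schreier.JThreeSylow
import Cfsg.Agent.J2Sylow.SporSylow
import Cfsg.Agent.J3.Core
import Cfsg.Agent.H868.NormE8
import Cfsg.Agent.H868.NormE8M
import Cfsg.Agent.H868.NormE8G
import Cfsg.Agent.H978.LowEight
import Cfsg.Agent.H956.NormE8
import Cfsg.Agent.H991.FourL4
import Cfsg.Agent.H991.FourSp
import Cfsg.Agent.H991.FourL5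

/-!
# The simple groups of sectional 2-rank at most 4 in the situation `Four` (helper285)
-/

set_option autoImplicit false

open Cfsg Subgroup

namespace Cfsg.Agent.H285.Fs

open Cfsg.Agent.GH.Defs
open Cfsg.Agent.H100.NormRank (Lower)

universe u v

/-- the conclusion of S3102 -/
def Concl (S : Type u) [Group S] : Prop :=
  (∃ (F : Type) (_ : Field F) (_ : Fintype F), (Fintype.card F % 8 = 1 ∨ Fintype.card F % 8 = 7) ∧
      ∃ P : Sylow 2 ↥(Cfsg.Lie.chevG2.group F), Nonempty (S ≃* ↥(P : Subgroup ↥(Cfsg.Lie.chevG2.group F)))) ∨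
    (∃ P : Sylow 2 Cfsg.Spor.J2, Nonempty (S ≃* ↥(P : Subgroup Cfsg.Spor.J2))) ∨
    (∃ P : Sylow 2 Cfsg.Spor.Ly, Nonempty (S ≃* ↥(P : Subgroup Cfsg.Spor.Ly)))

theorem Concl.congr {S : Type u} {T : Type v} [Group S] [Group T] (e : S ≃* T) (h : Concl T) : Concl S := by
  rcases h with ⟨F, i, j, hF, P, ⟨f⟩⟩ | ⟨P, ⟨f⟩⟩ | ⟨P, ⟨f⟩⟩
  · exact Or.inl ⟨F, i, j, hF, P, ⟨e.trans f⟩⟩
  · exact Or.inr (Or.inl ⟨P, ⟨e.trans f⟩⟩)
  · exact Or.inr (Or.inr ⟨P, ⟨e.trans f⟩⟩)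

theorem lower_of_sq {G : Type u} [Group G] (h2 : ∀ x : G, x * x = 1) (h8 : 8 ≤ Nat.card G) : Lower G 3 := by
  refine ⟨⊤, inferInstance, ?_, ?_⟩
  · rw [Cfsg.Agent.H100.NormRank.elemAb_iff]
    have h3 : ∀ w : G, w⁻¹ = w := fun w => inv_eq_of_mul_eq_one_right (h2 w)
    refine ⟨fun a _ b _ => ?_, fun a _ => h2 a⟩
    have h4 := h3 (a * b)
    rw [mul_inv_rev, h3 a, h3 b] at h4
    exact h4.symm
  · rw [Subgroup.card_top]
    exact h8

theorem rank_m11 {K : Type u} [Group K] (h : Spor.IsoM11 K) : PRankLE 2 2 K := by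
  obtain ⟨e⟩ := h
  refine rank_congr (e.trans Cfsg.Agent.Schreier.MEleven.equiv.symm) ?_
  refine NotResT.SmallTwo.prank_of_centralizers fun t ht => ?_
  obtain ⟨f⟩ := Cfsg.Agent.S1603.result _ Cfsg.Agent.Schreier.MEleven.squareDodecad_mem _
      Cfsg.Agent.Schreier.MEleven.zero_mem t ht
  exact rank_congr f (NotResT.SmallTwo.prank_gl_two (by decide))

theorem rank_k2 {K : Type u} [Group K] [Finite K] (h : K2 K) : PRankLE 2 2 K := by
  rcases h with h | h | h | h | h | h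
  · obtain ⟨F, _, _, hF, -, ⟨e⟩⟩ := h
    exact rank_congr e (NotResT.TwoRank.prank_psl_two hF)
  · obtain ⟨F, _, _, hF, ⟨e⟩⟩ := h
    exact rank_congr e (NotResT.TwoRank.prank_psl_three hF)
  · obtain ⟨F, _, _, q, hF, hq, ⟨e⟩⟩ := h
    exact rank_congr e (NotResT.TwoRank.prank_psu_three hF hq)
  · exact RankThree.FilterSpor.u34 h
  · obtain ⟨e⟩ := h
    exact rank_congr e NotResT.SmallTwo.prank_alt_seven
  · exact rank_m11 h

section

variable {K : Type u} [Group K] [Finite K] {T : Sylow 2 K} {W : Subgroup K}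

theorem Four.no_lower (h : Four T W) {L : Type v} [Group L] (e : K ≃* L)
    (hL : ∀ S : Sylow 2 L, Lower ↥(S : Subgroup L) 3) : False := by
  obtain ⟨T', W', h', -⟩ := h.congr e
  exact h'.low (hL T')

theorem Four.no_e8 (h : Four T W) (hE : GH.EFrameMain.SylE8 K) : False := by
  obtain ⟨h8, h2⟩ := hE T
  exact h.low (lower_of_sq (fun x => Subtype.ext (h2 x x.2)) h8.ge)

theorem Four.of_g2 (h : Four T W) (hG : TypeG2 ↥(T : Subgroup K)) : Concl ↥(T : Subgroup K) := by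
  obtain ⟨F, i, j, hF, P, ⟨e⟩⟩ := hG
  rw [Nat.odd_iff] at hF
  rcases (by omega : (Fintype.card F % 8 = 1 ∨ Fintype.card F % 8 = 7) ∨
    (Fintype.card F % 8 = 3 ∨ Fintype.card F % 8 = 5)) with h4 | h4
  · exact Or.inl ⟨F, i, j, h4, P, ⟨e⟩⟩
  · exact (h.low ((H868.NormE8G.lower_G23 h4 P).congr e.symm)).elim

/-- **The families.** -/
theorem Four.concl [IsSimpleGroup K] (hna : ¬ IsMulCommutative K) (h : Four T W) (hK : K4 K) :
    Concl ↥(T : Subgroup K) := by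
  have hp : Fact (Nat.Prime 2) := ⟨Nat.prime_two⟩
  have heven : 2 ∣ Nat.card K := by
    have h1 : Nat.card W ∣ Nat.card K := card_subgroup_dvd_card W
    rw [h.w4] at h1
    exact Dvd.dvd.trans (by norm_num) h1
  rcases hK with hK | hK | hK | hK | hK | hK | hK | hK | hK | hK | hK | hK | hK | hK | hK | hK | hK | hK
  · exact absurd (rank_k2 hK) h.rk
  · rcases hK with hK | hK | hK | hK
    · exact (h.no_e8 (GH.EFrameTops.sylE8_L28 hK)).elim
    · obtain ⟨F, _, _, hF, ⟨e⟩⟩ := hK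
      exact (h.no_lower e (H978.LowEight.lower_Sz8 hF)).elim
    · exact (h.no_e8 (GH.EFrameTops.sylE8_ree hK)).elim
    · exact (h.no_e8 (GH.EFrameTops.sylE8_J1 hK)).elim
  · obtain ⟨F, _, _, hF, ⟨e⟩⟩ := hK
    obtain ⟨Q, hQ, hcard, -⟩ := Cfsg.Agent.Ree.ReducePSL.even_case (F := F) (by rw [hF]; decide)
    refine (h.no_lower e fun S => ?_).elim
    have : Finite (Matrix.ProjectiveSpecialLinearGroup (Fin 2) F) := Finite.of_equiv K e.toEquiv
    refine Lower.congr (Q.equiv S) (lower_of_sq (fun x => Subtype.ext (hQ x x.2)) ?_)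
    rw [show Nat.card ↥(Q : Subgroup (Matrix.ProjectiveSpecialLinearGroup (Fin 2) F)) = Fintype.card F from hcard, hF]
    norm_num
  · obtain ⟨F, _, _, hF, ⟨e⟩⟩ := hK
    exact (h.no_lower e (H978.LowEight.lower_L34 hF)).elim
  · obtain ⟨n, hn, hn', ⟨e⟩⟩ := hK
    exact (h.no_lower e (H978.LowEight.lower_alt hn hn')).elim
  · obtain ⟨F, _, _, hF, ⟨e⟩⟩ := hK
    obtain ⟨T', W', h', -⟩ := h.congr e
    exact (H991.FG.four_Sp4 hF W' h'.w4 h'.w2 h'.wc).elim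
  · obtain ⟨F, _, _, hF, h8, ⟨e⟩⟩ := hK
    rw [Nat.odd_iff] at hF
    rcases (by omega : Fintype.card F % 4 = 3 ∨ Fintype.card F % 8 = 5) with h4 | h4
    · obtain ⟨T', W', h', -⟩ := h.congr e
      exact (H991.FG.four_L4 h4 T' W' h'.WT h'.w4 h'.w2 h'.wn h'.wc).elim
    · exact (h.no_lower e (H956.NormE8.lower_L45 h4)).elim
  · obtain ⟨F, _, _, q, hF, hq, h8, ⟨e⟩⟩ := hK
    rw [Nat.odd_iff] at hq
    rcases (by omega : q % 4 = 1 ∨ q % 8 = 3) with h4 | h4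
    · obtain ⟨T', W', h', -⟩ := h.congr e
      exact (H991.FG.four_U4 hF h4 T' W' h'.WT h'.w4 h'.w2 h'.wn h'.wc).elim
    · exact (h.no_lower e (H956.NormE8.lower_U43 hF h4)).elim
  · obtain ⟨F, _, _, hF, ⟨e⟩⟩ := hK
    obtain ⟨T', W', h', -⟩ := h.congr e
    exact (H991.FG.four_L5 hF W' h'.w4 h'.w2 h'.wc).elim
  · obtain ⟨F, _, _, q, hF, hq, ⟨e⟩⟩ := hK
    obtain ⟨T', W', h', -⟩ := h.congr e
    exact (H991.FG.four_U5 hF hq W' h'.w4 h'.w2 h'.wc).elim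
  · exact h.of_g2 (hK.2 T)
  · exact h.of_g2 (hK.2 T)
  · exact (h.low (H868.NormE8.lower_M12 hK T)).elim
  · exact (h.low (H868.NormE8.lower_M22 hK T)).elim
  · exact (h.low (H868.NormE8.lower_M23 hK T)).elim
  · obtain ⟨e⟩ := hK
    obtain ⟨T', W', -, ⟨f⟩⟩ := h.congr e
    exact Or.inr (Or.inl ⟨T', ⟨f⟩⟩)
  · obtain ⟨F, _, _, ω, hF, hω, ⟨e⟩⟩ := hK
    obtain ⟨T', W', -, ⟨f⟩⟩ := h.congr e
    obtain ⟨f1⟩ := Schreier.JThreeSylow.exists_equiv hF (J3.Core.good_of_card hF hω) T'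
    let P : Sylow 2 Spor.J2 := default
    obtain ⟨g⟩ := J2Sylow.SporSylow.exists_equiv P
    exact Or.inr (Or.inl ⟨P, ⟨f.trans (f1.symm.trans g)⟩⟩)
  · rcases mcl_or_ly hna heven hK with hK | ⟨⟨e⟩⟩
    · exact (h.low (H868.NormE8M.lower_McL hK T)).elim
    · obtain ⟨T', W', -, ⟨f⟩⟩ := h.congr e
      exact Or.inr (Or.inr ⟨T', ⟨f⟩⟩)

end

end Cfsg.Agent.H285.Fs
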